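import Cfsg.Prelude.Def_Solvable
import Cfsg.Prelude.Def_Transfer
import Cfsg.Agent.Lib.PGroup.Basic
import Mathlib.GroupTheory.Frattini

/-!
Centralizers of elements, their two-cores and extraspecial groups along isomorphisms.
-/

set_option autoImplicit false

namespace CfsgLib.Spor.CoTwoInv

variable {A B : Type*} [Group A] [Group B]

theorem center_map_equiv (e : A ≃* B) : (Subgroup.center A).map e.toMonoidHom = Subgroup.center B := by
  ext x
  simp only [Subgroup.mem_map, MulEquiv.coe_toMonoidHom, Subgroup.mem_center_iff]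
  constructor
  · rintro ⟨a, ha, rfl⟩ y
    rw [← e.apply_symm_apply y, ← map_mul, ← map_mul, ha]
  · intro hx
    exact ⟨e.symm x, fun y => e.injective (by rw [map_mul, map_mul, e.apply_symm_apply, hx]), e.apply_symm_apply x⟩

theorem frattini_map_equiv (e : A ≃* B) : (frattini A).map e.toMonoidHom = frattini B := by
  refine le_antisymm (Subgroup.map_le_iff_le_comap.2 (frattini_le_comap_frattini_of_surjective e.surjective)) ?_
  intro x hx
  exact ⟨e.symm x, frattini_le_comap_frattini_of_surjective (φ := e.symm.toMonoidHom) e.symm.surjective hx,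
    e.apply_symm_apply x⟩

theorem isExtraspecial_of_equiv {p : ℕ} (e : A ≃* B) (h : Cfsg.IsExtraspecial p A) : Cfsg.IsExtraspecial p B := by
  obtain ⟨⟨hp, hf, hc⟩, hcard⟩ := h
  refine ⟨⟨hp.of_equiv e, ?_, ?_⟩, ?_⟩
  · rw [← frattini_map_equiv e, hf, center_map_equiv]
  · rw [← center_map_equiv e, ← hc, commutator_def, commutator_def, Subgroup.map_commutator,
      Subgroup.map_top_of_surjective e.toMonoidHom e.surjective]
  · rw [← center_map_equiv e, Subgroup.card_map_of_injective e.injective]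
    exact hcard

theorem pCore_map_equiv (p : ℕ) (e : A ≃* B) : (Cfsg.pCore p A).map e.toMonoidHom = Cfsg.pCore p B := by
  refine le_antisymm ?_ ?_
  · unfold Cfsg.pCore
    rw [sSup_eq_iSup, Subgroup.map_iSup]
    refine iSup_le fun N => ?_
    rw [Subgroup.map_iSup]
    exact iSup_le fun h => le_sSup ⟨h.1.map _ e.surjective, h.2.map _⟩
  · refine sSup_le fun M hM => ?_
    intro x hx
    have h : M.map e.symm.toMonoidHom ≤ Cfsg.pCore p A := le_sSup ⟨hM.1.map _ e.symm.surjective, hM.2.map _⟩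
    exact ⟨e.symm x, h (Subgroup.mem_map_of_mem e.symm.toMonoidHom hx), e.apply_symm_apply x⟩

/-- The centralizer of the image. -/
noncomputable def centralizerEquivImage (e : A ≃* B) (t : A) :
    ↥(Subgroup.centralizer ({t} : Set A)) ≃* ↥(Subgroup.centralizer ({e t} : Set B)) :=
  (e.subgroupMap _).trans (MulEquiv.subgroupCongr (by
    ext x
    simp only [Subgroup.mem_map, MonoidHom.coe_coe, MulEquiv.coe_toMonoidHom, Subgroup.mem_centralizer_singleton_iff]
    constructor
    · rintro ⟨a, ha, rfl⟩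
      rw [← map_mul, ha, map_mul]
    · intro hx
      exact ⟨e.symm x, e.injective (by rw [map_mul, map_mul, e.apply_symm_apply, hx]), e.apply_symm_apply x⟩))

theorem shape_transfer (e : A ≃* B) {Q : Type*} [Group Q] {n : ℕ}
    (h : ∃ t : A, orderOf t = 2 ∧
      Cfsg.IsExtraspecial 2 (Cfsg.pCore 2 ↥(Subgroup.centralizer ({t} : Set A))) ∧
      Nat.card (Cfsg.pCore 2 ↥(Subgroup.centralizer ({t} : Set A))) = n ∧
      Nonempty (↥(Subgroup.centralizer ({t} : Set A)) ⧸ Cfsg.pCore 2 ↥(Subgroup.centralizer ({t} : Set A)) ≃* Q)) :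
    ∃ t : B, orderOf t = 2 ∧
      Cfsg.IsExtraspecial 2 (Cfsg.pCore 2 ↥(Subgroup.centralizer ({t} : Set B))) ∧
      Nat.card (Cfsg.pCore 2 ↥(Subgroup.centralizer ({t} : Set B))) = n ∧
      Nonempty (↥(Subgroup.centralizer ({t} : Set B)) ⧸ Cfsg.pCore 2 ↥(Subgroup.centralizer ({t} : Set B)) ≃* Q) := by
  obtain ⟨t, ht, hext, hcard, ⟨q⟩⟩ := h
  set f := centralizerEquivImage e t
  have hmap := pCore_map_equiv 2 f
  let g := (f.subgroupMap (Cfsg.pCore 2 ↥(Subgroup.centralizer ({t} : Set A)))).trans (MulEquiv.subgroupCongr hmap)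
  refine ⟨e t, (e.orderOf_eq t).trans ht, isExtraspecial_of_equiv g hext,
    (Nat.card_congr g.toEquiv).symm.trans hcard, ⟨(QuotientGroup.congr _ _ f hmap).symm.trans q⟩⟩

end CfsgLib.Spor.CoTwoInv
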