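import Cfsg.Agent.Lib.Spor.CoTwoInv.Words

/-!
The roots are lattice vectors.
-/

set_option autoImplicit false
set_option maxRecDepth 100000
set_option maxHeartbeats 0

namespace CfsgLib.Spor.CoTwoInv

open Cfsg CfsgLib.Spor.Leech CfsgLib.Spor.Leech.Census32

/-- A packed number is that of a short lattice vector. -/
noncomputable def decodeOK (p : ℕ × ℕ) : Bool :=
  leechTest (dec p.1) && (sqNorm (dec p.1) == 32) && Nat.beq (enc (dec p.1)) p.1

theorem decode_check : roots.all decodeOK = true := by decide +kernel

end CfsgLib.Spor.CoTwoInv
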