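import Cfsg.Agent.Lib.Spor.CoTwoInv.Words

/-!
The roots and the further vectors.
-/

set_option autoImplicit false
set_option maxRecDepth 100000
set_option maxHeartbeats 0

namespace CfsgLib.Spor.CoTwoInv

open CfsgLib.Spor.Leech.Census32 CfsgLib.Spor.SchurCert CfsgLib.Spor.SchurCert.MatBridge

theorem revs_check : revsOK = true := by decide +kernel

theorem roots_check : rootsOK = true := by decide +kernel

theorem masks_check : masksOK = true := by decide +kernel

theorem vecs_check : vecsOK = true ∧ spanOK = true := by decide +kernel

end CfsgLib.Spor.CoTwoInv
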