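import Cfsg.Agent.Lib.Spor.CoTwoInv.CheckTable
import Cfsg.Agent.Lib.Spor.CoTwoInv.CheckNamed
import Cfsg.Agent.Lib.Spor.CoTwoInv.CheckRoots
import Cfsg.Agent.Lib.Spor.CoTwoInv.CheckDecode
import Cfsg.Agent.Lib.Spor.CoTwoOut.Main

/-!
The enlarged table, the involution, and the products of short vectors.
-/

set_option autoImplicit false
set_option maxRecDepth 100000

namespace CfsgLib.Spor.CoTwoInv

open Cfsg MulAction CfsgLib.Spor.Leech CfsgLib.Spor.Leech.Census32 CfsgLib.Spor.SchurCert
  CfsgLib.Spor.SchurCert.MatBridge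

attribute [local irreducible] chosen walk enc

/-- The automorphisms of the table. -/
noncomputable def elts : List Co0 := extendE ops CoTwoOut.elts

theorem length_old : CoTwoOut.elts.length = CoTwoOut.allMats.length := by
  rw [CoTwoOut.elts, CoTwoOut.length_extendE, CoTwoMult.elts, CoTwoOut.length_extendE]
  rfl

theorem isMat_elts : ∀ k, IsMat (elts.getD k 1) (table.getD k oneMat) := by
  have h := isMat_extend ops CoTwoOut.elts CoTwoOut.allMats length_old CoTwoOut.isMat_elts
  rw [eq_of_beq table_check.1] at h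
  exact h

theorem elts_mem : ∀ k, 15 ≤ k → elts.getD k 1 ∈ CoTwoMult.G0 := by
  intro k hk
  rcases Nat.lt_or_ge k table.length with hl | hl
  · have h := table_check.2.2
    simp only [List.all_eq_true, List.mem_range, Bool.or_eq_true] at h
    rcases h k hl with h | h
    · exact absurd (Nat.le_of_ble_eq_true h) (by omega)
    · rw [← CoTwoMult.mark_code.1] at h
      exact mem_stabilizer_iff.2 (fix_of_step (isMat_elts k) (by rw [CoTwoMult.mark_code.2]; norm_num)
        (Nat.eq_of_beq_eq_true h))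
  · have hl' : elts.length = table.length := by
      rw [elts, CoTwoOut.length_extendE, length_old, table, List.length_append]
      rfl
    rw [List.getD_eq_default _ _ (by omega)]
    exact one_mem _

/-- The element of a word. -/
noncomputable abbrev el (w : List ℕ) : ↥CoTwoMult.G0 := melt elts_mem w

theorem same_el {u v : List ℕ} (h : sameM table 15 u v = true) : el u = el v := by
  simp only [sameM, Bool.and_eq_true, List.all_eq_true, List.mem_append] at h
  refine Subtype.ext ?_
  rw [melt_val elts_mem fun k hk => Nat.le_of_ble_eq_true (h.1 k (Or.inl hk)),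
    melt_val elts_mem fun k hk => Nat.le_of_ble_eq_true (h.1 k (Or.inr hk))]
  exact eq_of_same isMat_elts (List.all_eq_true.2 h.2)

theorem el_walk {w : List ℕ} (hw : ∀ k ∈ w, 15 ≤ k) {x : leechLattice} (hx : sqNorm (x : GolayPt → ℤ) = 32) :
    walk table (enc (x : GolayPt → ℤ)) w = enc (((el w).1 • x : leechLattice) : GolayPt → ℤ) := by
  rw [melt_val elts_mem hw]
  exact walk_enc isMat_elts (by rw [hx]; norm_num) w

theorem el_append {u v : List ℕ} (hu : ∀ k ∈ u, 15 ≤ k) (hv : ∀ k ∈ v, 15 ≤ k) : el (u ++ v) = el u * el v :=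
  melt_append elts_mem hu hv

theorem el_nil : el [] = 1 := by
  refine Subtype.ext ?_
  rw [melt_val elts_mem (by simp)]
  simp [wordElt]

theorem code_inj {v w : leechLattice} (hv : sqNorm (v : GolayPt → ℤ) = 32) (hw : sqNorm (w : GolayPt → ℤ) = 32)
    (e : enc (v : GolayPt → ℤ) = enc (w : GolayPt → ℤ)) : v = w :=
  Subtype.ext (enc_inj (small_of_norm (by rw [hv]; norm_num)) (small_of_norm (by rw [hw]; norm_num)) e)

theorem dval_enc {x y : leechLattice} (hx : sqNorm (x : GolayPt → ℤ) = 32) (hy : sqNorm (y : GolayPt → ℤ) = 32)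
    {p : ℕ × ℕ} (h1 : p.1 = enc (y : GolayPt → ℤ)) (h2 : p.2 = CentCheck.revN p.1) :
    (dval (enc (x : GolayPt → ℤ)) p : ℤ) = dotInt (x : GolayPt → ℤ) (y : GolayPt → ℤ) + 14848 := by
  have hsx := small_of_norm (x := (x : GolayPt → ℤ)) (by rw [hx]; norm_num)
  have hsy := small_of_norm (x := (y : GolayPt → ℤ)) (by rw [hy]; norm_num)
  have e := CentCheck.dotN_enc hsx hsy
  rw [← CentCheck.revN_enc hsy, ← h1, ← h2] at e
  have e1 := CentCheck.enc_mod hsx
  have e2 := CentCheck.enc_mod hsy
  rw [← h1] at e2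
  have hd : -64 ≤ dotInt (x : GolayPt → ℤ) (y : GolayPt → ℤ) := by
    have := sqNorm_add (x : GolayPt → ℤ) (y : GolayPt → ℤ)
    have h0 : (0 : ℤ) ≤ sqNorm ((x : GolayPt → ℤ) + (y : GolayPt → ℤ)) := Finset.sum_nonneg fun i _ => sq_nonneg _
    omega
  show ((CentCheck.dotN (enc (x : GolayPt → ℤ)) p.2 + 16384 -
    8 * (enc (x : GolayPt → ℤ) % 40502 + p.1 % 40502) : ℕ) : ℤ) = _
  rw [Nat.cast_sub (by omega)]
  push_cast
  omega

/-- The involution. -/
noncomputable abbrev τ : ↥CoTwoMult.G0 := el invWordT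

theorem named_facts : τ * τ = 1 ∧ τ ≠ 1 ∧ (∀ w ∈ strong ++ normGens, (∀ k ∈ w, 15 ≤ k) ∧ el w * τ = τ * el w) ∧
    (∀ w ∈ normGens, ∀ r ∈ roots, walk table r.1 w = r.1) ∧
    (∀ i < 9, ∀ j < 9, el (normGens.getD i []) * el (normGens.getD j []) =
        el (normGens.getD j []) * el (normGens.getD i []) ∨
      el (normGens.getD i []) * el (normGens.getD j []) =
        τ * (el (normGens.getD j []) * el (normGens.getD i []))) ∧
    (∀ i < 9, el (normGens.getD i []) * el (normGens.getD i []) = 1 ∨
      el (normGens.getD i []) * el (normGens.getD i []) = τ) ∧ normGens.length = 9 := by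
  have h := named_check
  simp only [namedOK, Bool.and_eq_true, Bool.or_eq_true, List.all_eq_true, List.mem_range] at h
  obtain ⟨⟨⟨⟨⟨⟨htt, htne⟩, hlen⟩, hcomm⟩, hfix⟩, hij⟩, hsq⟩ := h
  have hT : ∀ k ∈ invWordT, 15 ≤ k := by decide +kernel
  have hw : ∀ w ∈ strong ++ normGens, ∀ k ∈ w, 15 ≤ k := fun w hw k hk => by
    have h := hcomm w hw
    simp only [sameM, Bool.and_eq_true, List.all_eq_true, List.mem_append] at h
    exact Nat.le_of_ble_eq_true (h.1 k (Or.inl (Or.inl hk)))
  have hg : ∀ i, ∀ k ∈ normGens.getD i [], 15 ≤ k := fun i => by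
    rcases Nat.lt_or_ge i normGens.length with hi | hi
    · rw [List.getD_eq_getElem _ _ hi]; exact hw _ (List.mem_append_right _ (List.getElem_mem hi))
    · rw [List.getD_eq_default _ _ hi]; simp
  refine ⟨?_, ?_, fun w h => ⟨hw w h, ?_⟩, fun w h r hr => Nat.eq_of_beq_eq_true (hfix w h r hr), fun i hi j hj => ?_,
    fun i hi => ?_, Nat.eq_of_beq_eq_true hlen⟩
  · rw [← el_append hT hT, same_el htt, el_nil]
  · intro e
    simp only [differI, List.any_eq_true, Bool.not_eq_true'] at htne
    obtain ⟨X, hX, hne⟩ := htne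
    obtain ⟨q, -, rfl⟩ := List.mem_map.1 (show X ∈ (List.range 24).map fun i => enc (Pi.single (idxPt i) 8) from hX)
    have hn : sqNorm (eight (idxPt q) : GolayPt → ℤ) ≤ 64 := (sqNorm_eight _).le
    have e' := congrArg Subtype.val e
    rw [melt_val elts_mem hT, OneMemClass.coe_one] at e'
    rw [show enc (Pi.single (idxPt q) 8) = enc (eight (idxPt q) : GolayPt → ℤ) from rfl, walk_enc isMat_elts hn,
      walk_enc isMat_elts hn, e', show wordElt elts [] = 1 by simp [wordElt]] at hne
    exact Bool.noConfusion ((Nat.beq_refl _).symm.trans hne)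
  · rw [← el_append (hw w h) hT, ← el_append hT (hw w h)]; exact same_el (hcomm w h)
  · rcases hij i hi j hj with h | h
    · exact Or.inl (by rw [← el_append (hg i) (hg j), ← el_append (hg j) (hg i)]; exact same_el h)
    · refine Or.inr ?_
      rw [← el_append (hg i) (hg j), ← el_append (hg j) (hg i), ← el_append hT (fun k hk =>
        (List.mem_append.1 hk).elim (hg j k) (hg i k)), ← List.append_assoc]
      exact same_el h
  · rcases hsq i hi with h | h
    · exact Or.inl (by rw [← el_append (hg i) (hg i), same_el h, el_nil])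
    · exact Or.inr (by rw [← el_append (hg i) (hg i), same_el h])

end CfsgLib.Spor.CoTwoInv
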