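import Cfsg.Agent.Lib.Spor.CoTwoInv.Normal
import Cfsg.Agent.Lib.Spor.CoTwoInv.CheckChain
import Cfsg.Agent.Lib.Spor.CoTwoInv.CheckCenter
import Cfsg.Agent.Lib.Spor.CoTwoInv.CheckDistinct
import Cfsg.Agent.Lib.Classical.SpOrder
import Cfsg.Agent.Lib.Classical.PSpSimple
import Cfsg.Agent.Lib.PGroup.Basic
import Cfsg.Agent.Lib.PGroup.FrattiniLe
import Cfsg.Agent.Lib.Coprime.PGroupFrattini
import Cfsg.Prelude.Def_Transfer

/-!
The centralizer of an involution in the second Conway group is an extraspecial group of order 2^9 extended by the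
symplectic group in dimension six over the field with two elements.
-/

set_option autoImplicit false
set_option maxRecDepth 100000

namespace CfsgLib.Spor.CoTwoInv

open Cfsg MulAction CfsgLib.Spor.Leech CfsgLib.Spor.Leech.Census32 CfsgLib.Spor.SchurCert
  CfsgLib.Spor.SchurCert.MatBridge
open scoped commutatorElement

attribute [local irreducible] chosen walk enc

theorem gen_le : ∀ w ∈ strong ++ normGens, ∀ k ∈ w, 15 ≤ k := fun w hw => (named_facts.2.2.1 w hw).1

theorem el_mem_cen {w : List ℕ} (hw : w ∈ strong ++ normGens) : el w ∈ Cen :=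
  Subgroup.mem_centralizer_singleton_iff.2 (named_facts.2.2.1 w hw).2

theorem el_flatten_mem : ∀ ws : List (List ℕ), (∀ w ∈ ws, w ∈ strong ++ normGens) →
    (∀ k ∈ ws.flatten, 15 ≤ k) ∧ el ws.flatten ∈ Cen
  | [], _ => ⟨by simp, by rw [List.flatten_nil, el_nil]; exact one_mem _⟩
  | w :: ws, h => by
    obtain ⟨h1, h2⟩ := el_flatten_mem ws fun v hv => h v (List.mem_cons_of_mem _ hv)
    have hw := h w List.mem_cons_self
    refine ⟨fun k hk => ?_, ?_⟩
    · rw [List.flatten_cons, List.mem_append] at hk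
      exact hk.elim (gen_le w hw k) (h1 k)
    · rw [List.flatten_cons, el_append (gen_le w hw) h1]
      exact mul_mem (el_mem_cen hw) h2

theorem card_cen_ge : 743178240 ≤ Nat.card ↥Cen := by
  have : Finite Co0 := Nat.finite_of_card_ne_zero (by rw [card_co0]; norm_num)
  obtain ⟨hsub, hprod⟩ := chain_check
  have h := subMat_count isMat_elts (x0 := CoTwoMult.startVec) (by rw [CoTwoMult.start_code.2]; norm_num)
    (Cen.map CoTwoMult.G0.subtype) (fun v hv => by
      obtain ⟨h1, h2⟩ := el_flatten_mem (v.map fun i => strong.getD i []) (fun w hw => by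
        obtain ⟨i, hi, rfl⟩ := List.mem_map.1 hw
        rw [List.getD_eq_getElem _ _ (hv i hi)]
        exact List.mem_append_left _ (List.getElem_mem _))
      refine ⟨_, h2, ?_⟩
      exact melt_val elts_mem h1)
    orbits [] [] rfl (by simp) (by rw [CoTwoMult.start_code.1]; exact hsub)
  rw [show fixL (Cen.map CoTwoMult.G0.subtype) [] = Cen.map CoTwoMult.G0.subtype from rfl,
    Subgroup.card_subtype, Nat.eq_of_beq_eq_true hprod] at h
  exact h

theorem card_sp : Nat.card (Matrix.symplecticGroup (Fin 3) (ZMod 2)) = 1451520 := by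
  rw [Classical.card_symplectic_succ, Classical.card_symplectic_succ, Classical.card_symplectic_succ,
    ZMod.card, Nat.card_of_subsingleton (1 : Matrix.symplecticGroup (Fin 0) (ZMod 2))]
  norm_num

theorem card_facts : Nat.card ↥spHom.ker = 512 ∧ Function.Surjective spHom := by
  have : Finite Co0 := Nat.finite_of_card_ne_zero (by rw [card_co0]; norm_num)
  have h1 := spHom.ker.card_mul_index
  rw [Subgroup.index_ker] at h1
  have h2 := card_cen_ge
  rw [← h1] at h2
  have h3 := kernel_card_le
  have h4 : Nat.card ↥spHom.range ≤ 1451520 := card_sp ▸ Subgroup.card_le_card_group _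
  have e1 : Nat.card ↥spHom.ker = 512 := by nlinarith
  refine ⟨e1, MonoidHom.range_eq_top.1 (Subgroup.eq_top_of_le_card _ ?_)⟩
  rw [card_sp]
  nlinarith

/-- A product of generators of the normal subgroup. -/
noncomputable def prodElt (e : ℕ) : ↥Cen :=
  ⟨el (prodWord e), (el_flatten_mem _ (fun w hw => by
    obtain ⟨i, hi, rfl⟩ := List.mem_map.1 hw
    rw [List.getD_eq_getElem _ _ (by rw [named_facts.2.2.2.2.2.2]; exact List.mem_range.1 (List.mem_filter.1 hi).1)]
    exact List.mem_append_right _ (List.getElem_mem _))).2⟩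

/-- A generator of the normal subgroup. -/
noncomputable def normElt (i : Fin 9) : ↥Cen :=
  ⟨el (normGens.getD i []), el_mem_cen (by
    rw [List.getD_eq_getElem _ _ (by rw [named_facts.2.2.2.2.2.2]; exact i.2)]
    exact List.mem_append_right _ (List.getElem_mem _))⟩

theorem gen_word_le (i : ℕ) : ∀ k ∈ normGens.getD i [], 15 ≤ k := by
  rcases Nat.lt_or_ge i normGens.length with hi | hi
  · rw [List.getD_eq_getElem _ _ hi]; exact gen_le _ (List.mem_append_right _ (List.getElem_mem hi))
  · rw [List.getD_eq_default _ _ hi]; simp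

theorem el_flatten_gens : ∀ l : List ℕ,
    (∀ k ∈ (l.map fun i => normGens.getD i []).flatten, 15 ≤ k) ∧
      el (l.map fun i => normGens.getD i []).flatten = (l.map fun i => el (normGens.getD i [])).prod
  | [] => ⟨by simp, by simp [el_nil]⟩
  | a :: l => by
    obtain ⟨h1, h2⟩ := el_flatten_gens l
    refine ⟨fun k hk => ?_, ?_⟩
    · rw [List.map_cons, List.flatten_cons, List.mem_append] at hk
      exact hk.elim (gen_word_le a k) (h1 k)
    · rw [List.map_cons, List.flatten_cons, el_append (gen_word_le a) h1, h2, List.map_cons, List.prod_cons]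

theorem prod_mem {S : Subgroup ↥Cen} (h : ∀ i, normElt i ∈ S) (e : ℕ) : prodElt e ∈ S := by
  have key : ∀ l : List ℕ, (∀ i ∈ l, i < 9) →
      ∃ x ∈ S, (x : ↥CoTwoMult.G0) = el (l.map fun i => normGens.getD i []).flatten := by
    intro l
    induction l with
    | nil => intro _; exact ⟨1, one_mem _, by simp [el_nil]⟩
    | cons a l ih =>
      intro hl
      obtain ⟨x, hx, ex⟩ := ih fun i hi => hl i (List.mem_cons_of_mem _ hi)
      refine ⟨normElt ⟨a, hl a List.mem_cons_self⟩ * x, mul_mem (h _) hx, ?_⟩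
      rw [(el_flatten_gens (a :: l)).2, List.map_cons, List.prod_cons, ← (el_flatten_gens l).2, ← ex]
      rfl
  obtain ⟨x, hx, ex⟩ := key ((List.range 9).filter fun i => e.testBit i)
    fun i hi => List.mem_range.1 (List.mem_filter.1 hi).1
  exact (Subtype.ext ex : x = prodElt e) ▸ hx

theorem normElt_ker (i : Fin 9) : normElt i ∈ spHom.ker := by
  have hw : normGens.getD i [] ∈ normGens := by
    rw [List.getD_eq_getElem _ _ (by rw [named_facts.2.2.2.2.2.2]; exact i.2)]
    exact List.getElem_mem _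
  have hmove : ∀ j, move (normElt i) j = j := fun j => by
    refine rootV_injective (code_inj (rootV_norm _) (rootV_norm _) ?_)
    rw [← move_spec, rootV_enc]
    have e := named_facts.2.2.2.1 _ hw _ (root_mem j)
    rw [← rootV_enc, el_walk (gen_word_le i) (rootV_norm j)] at e
    exact e.trans (rootV_enc j)
  rw [MonoidHom.mem_ker]
  refine Subtype.ext ?_
  show mat (normElt i) = 1
  ext a b
  rw [mat, Matrix.of_apply, hmove, cv_basis, Matrix.one_apply, Pi.single_apply]

theorem prodWord_le (e : ℕ) : ∀ k ∈ prodWord e, 15 ≤ k :=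
  (el_flatten_gens _).1

theorem prod_surjective (g : ↥Cen) (hg : g ∈ spHom.ker) : ∃ e < 512, g = prodElt e := by
  classical
  have : Finite Co0 := Nat.finite_of_card_ne_zero (by rw [card_co0]; norm_num)
  have h := distinct_check
  simp only [distinctOK, Bool.and_eq_true, List.all_eq_true] at h
  obtain ⟨⟨hinc, hlen⟩, hlt⟩ := h
  have hlen' := Nat.eq_of_beq_eq_true hlen
  let f : Fin normOrder.length → ↥spHom.ker := fun j => ⟨prodElt normOrder[j], prod_mem normElt_ker _⟩
  have hpair := increasing_spec hinc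
  have hf : Function.Injective f := by
    intro a b e
    have e' : el (prodWord normOrder[a]) = el (prodWord normOrder[b]) :=
      congrArg (fun x : ↥spHom.ker => (x.1 : ↥CoTwoMult.G0)) e
    have hk : orderKey normOrder[a] = orderKey normOrder[b] := by
      unfold orderKey
      refine fold_congr _ _ _ _ fun p hp k => ?_
      obtain ⟨hlw, hlv, -, -, -, hp', -⟩ := vec_data
      obtain ⟨i, hi, rfl⟩ := List.getElem_of_mem (List.mem_of_mem_take hp)
      have hc := (hp' i (hlv ▸ hi)).1
      rw [List.getD_eq_getElem _ _ hi, ← CoTwoMult.start_code.1,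
        walk_enc isMat_elts (by rw [CoTwoMult.start_code.2]; norm_num)] at hc
      rw [← hc, el_walk (prodWord_le _) (by rw [co0_norm]; exact CoTwoMult.start_code.2),
        el_walk (prodWord_le _) (by rw [co0_norm]; exact CoTwoMult.start_code.2), e']
    rw [List.pairwise_map, List.pairwise_iff_getElem] at hpair
    rcases lt_trichotomy (a : ℕ) b with h | h | h
    · exact absurd hk (Nat.ne_of_lt (hpair _ _ a.2 b.2 h))
    · exact Fin.ext h
    · exact absurd hk.symm (Nat.ne_of_lt (hpair _ _ b.2 a.2 h))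
  obtain ⟨j, hj⟩ := ((Nat.bijective_iff_injective_and_card f).2
    ⟨hf, by rw [Nat.card_fin, hlen', card_facts.1]⟩).2 ⟨g, hg⟩
  exact ⟨normOrder[j], Nat.le_of_ble_eq_true (hlt _ (List.getElem_mem _)), (congrArg Subtype.val hj).symm⟩

/-- The involution in its centralizer. -/
noncomputable abbrev tC : ↥Cen := ⟨τ, Subgroup.mem_centralizer_singleton_iff.2 rfl⟩

theorem tC_sq : tC * tC = 1 := Subtype.ext named_facts.1

theorem tC_comm (g : ↥Cen) : g * tC = tC * g :=
  Subtype.ext (Subgroup.mem_centralizer_singleton_iff.1 g.2)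

theorem mem_zpowers_tC {g : ↥Cen} (hg : g ∈ Subgroup.zpowers tC) : g = 1 ∨ g = tC := by
  obtain ⟨n, rfl⟩ := hg
  rcases Int.even_or_odd n with ⟨k, rfl⟩ | ⟨k, rfl⟩
  · left
    show tC ^ (k + k) = 1
    rw [← two_mul, _root_.zpow_mul, zpow_two, tC_sq, one_zpow]
  · right
    show tC ^ (2 * k + 1) = tC
    rw [_root_.zpow_add, _root_.zpow_mul, zpow_two, tC_sq, one_zpow, one_mul, zpow_one]

theorem zero_word : prodWord 0 = [] ∧ prodWord 1 = invWordT ++ [] := by decide +kernel

theorem normal_zpowers : (Subgroup.zpowers tC).Normal :=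
  ⟨fun x hx g => by
    rcases mem_zpowers_tC hx with rfl | rfl
    · simp
    · rw [tC_comm, mul_inv_cancel_right]; exact Subgroup.mem_zpowers _⟩

theorem comm_mod {g h : ↥Cen} (hg : g ∈ spHom.ker) (hh : h ∈ spHom.ker) :
    g * h * g⁻¹ * h⁻¹ ∈ Subgroup.zpowers tC ∧ g * g ∈ Subgroup.zpowers tC := by
  haveI := normal_zpowers
  set π := QuotientGroup.mk' (Subgroup.zpowers tC)
  have hgen : ∀ i j, π (normElt i) * π (normElt j) = π (normElt j) * π (normElt i) := fun i j => by
    rw [← map_mul, ← map_mul]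
    rcases named_facts.2.2.2.2.1 i i.2 j j.2 with e | e
    · exact congrArg π (Subtype.ext e)
    · rw [show normElt i * normElt j = tC * (normElt j * normElt i) from Subtype.ext e, map_mul,
        show π tC = 1 from (QuotientGroup.eq_one_iff _).2 (Subgroup.mem_zpowers _), one_mul]
  have hsq : ∀ i, π (normElt i) * π (normElt i) = 1 := fun i => by
    rw [← map_mul]
    refine (QuotientGroup.eq_one_iff _).2 ?_
    rcases named_facts.2.2.2.2.2.1 i i.2 with e | e
    · rw [show normElt i * normElt i = 1 from Subtype.ext e]; exact one_mem _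
    · rw [show normElt i * normElt i = tC from Subtype.ext e]; exact Subgroup.mem_zpowers _
  set A := Subgroup.closure (Set.range fun i => π (normElt i))
  haveI hA : IsMulCommutative ↥A := Subgroup.isMulCommutative_closure (by
    rintro _ ⟨i, rfl⟩ _ ⟨j, rfl⟩
    exact hgen i j)
  have hmem : ∀ x ∈ spHom.ker, π x ∈ A := fun x hx => by
    obtain ⟨e, -, rfl⟩ := prod_surjective x hx
    exact prod_mem (S := A.comap π) (fun i => Subgroup.subset_closure ⟨i, rfl⟩) e
  have hc : ∀ {a b}, a ∈ A → b ∈ A → a * b = b * a := fun {a b} ha hb =>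
    congrArg Subtype.val (mul_comm' (⟨a, ha⟩ : ↥A) ⟨b, hb⟩)
  have hinv : ∀ a ∈ A, a * a = 1 := by
    intro a ha
    induction ha using Subgroup.closure_induction with
    | mem a ha => obtain ⟨i, rfl⟩ := ha; exact hsq i
    | one => rw [mul_one]
    | mul a b ha hb ia ib =>
      rw [mul_assoc, ← mul_assoc b, hc hb ha, mul_assoc, ib, mul_one, ia]
    | inv a ha ia => rw [← mul_inv_rev, ia, inv_one]
  constructor
  · refine (QuotientGroup.eq_one_iff _).1 ?_
    show π (g * h * g⁻¹ * h⁻¹) = 1
    rw [map_mul, map_mul, map_mul, hc (hmem g hg) (hmem h hh), map_inv, map_inv]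
    group
  · refine (QuotientGroup.eq_one_iff _).1 ?_
    show π (g * g) = 1
    rw [map_mul]; exact hinv _ (hmem g hg)

theorem tC_ker : tC ∈ spHom.ker := by
  have e : tC = normElt 0 := Subtype.ext rfl
  rw [e]; exact normElt_ker 0

theorem central_cases {g : ↥Cen} (hg : g ∈ spHom.ker) (hc : ∀ i, g * normElt i = normElt i * g) :
    g ∈ Subgroup.zpowers tC := by
  obtain ⟨e, he, rfl⟩ := prod_surjective g hg
  rcases Nat.lt_or_ge e 2 with h2 | h2
  · interval_cases e
    · rw [show prodElt 0 = 1 from Subtype.ext (by show el (prodWord 0) = 1; rw [zero_word.1, el_nil])]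
      exact one_mem _
    · rw [show prodElt 1 = tC from Subtype.ext (by show el (prodWord 1) = τ; rw [zero_word.2, List.append_nil])]
      exact Subgroup.mem_zpowers _
  · exfalso
    have h := center_check
    simp only [centerOK, List.all_eq_true, List.mem_range, List.any_eq_true] at h
    obtain ⟨i, hi, hd⟩ := h (e - 2) (by omega)
    rw [show e - 2 + 2 = e by omega] at hd
    simp only [differFirst, Bool.not_eq_true'] at hd
    have e' : el (prodWord e ++ normGens.getD i []) = el (normGens.getD i [] ++ prodWord e) := by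
      rw [el_append (prodWord_le e) (gen_word_le i), el_append (gen_word_le i) (prodWord_le e)]
      exact congrArg Subtype.val (hc ⟨i, hi⟩)
    obtain ⟨-, hlv, -, -, -, hp, -⟩ := vec_data
    have hv := (hp 0 (by norm_num)).1
    rw [← CoTwoMult.start_code.1, walk_enc isMat_elts (by rw [CoTwoMult.start_code.2]; norm_num)] at hv
    rw [← hv, el_walk (fun k hk => (List.mem_append.1 hk).elim (prodWord_le e k) (gen_word_le i k))
        (by rw [co0_norm]; exact CoTwoMult.start_code.2),
      el_walk (fun k hk => (List.mem_append.1 hk).elim (gen_word_le i k) (prodWord_le e k))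
        (by rw [co0_norm]; exact CoTwoMult.start_code.2), e', Nat.beq_refl] at hd
    exact Bool.noConfusion hd

theorem ker_pGroup : IsPGroup 2 ↥spHom.ker := IsPGroup.of_card (n := 9) (by rw [card_facts.1]; norm_num)

theorem ker_extraspecial : Cfsg.IsExtraspecial 2 ↥spHom.ker := by
  have : Finite Co0 := Nat.finite_of_card_ne_zero (by rw [card_co0]; norm_num)
  haveI : Fact (Nat.Prime 2) := ⟨Nat.prime_two⟩
  set t : ↥spHom.ker := ⟨tC, tC_ker⟩
  have hzp : ∀ x : ↥spHom.ker, x.1 ∈ Subgroup.zpowers tC → x ∈ Subgroup.zpowers t := fun x hx => by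
    rcases mem_zpowers_tC hx with e | e
    · rw [show x = 1 from Subtype.ext e]; exact one_mem _
    · rw [show x = t from Subtype.ext e]; exact Subgroup.mem_zpowers _
  have hord : orderOf t = 2 := orderOf_eq_prime (by rw [pow_two]; exact Subtype.ext tC_sq) fun e =>
    named_facts.2.1 (congrArg (fun x : ↥spHom.ker => (x.1 : ↥CoTwoMult.G0)) e)
  have hcenter : Subgroup.center ↥spHom.ker = Subgroup.zpowers t := by
    refine le_antisymm (fun x hx => hzp x ?_) (Subgroup.zpowers_le.2 (Subgroup.mem_center_iff.2 fun y =>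
      Subtype.ext (tC_comm y.1)))
    exact central_cases x.2 fun i =>
      congrArg Subtype.val (Subgroup.mem_center_iff.1 hx ⟨normElt i, normElt_ker i⟩).symm
  have hcard : Nat.card ↥(Subgroup.center ↥spHom.ker) = 2 := by rw [hcenter, Nat.card_zpowers, hord]
  have hle : commutator ↥spHom.ker ≤ Subgroup.zpowers t := by
    rw [commutator_def, Subgroup.commutator_le]
    intro a _ b _
    exact hzp _ (comm_mod a.2 b.2).1
  have hcomm : commutator ↥spHom.ker = Subgroup.zpowers t := by
    haveI : Fact (Nat.card ↥(Subgroup.zpowers t)).Prime := ⟨by rw [Nat.card_zpowers, hord]; norm_num⟩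
    rcases Subgroup.eq_bot_or_eq_top_of_prime_card ((commutator ↥spHom.ker).subgroupOf (Subgroup.zpowers t)) with h | h
    · exfalso
      rw [Subgroup.subgroupOf_eq_bot, disjoint_iff, inf_eq_left.2 hle] at h
      have htop : Subgroup.center ↥spHom.ker = ⊤ := by
        rw [eq_top_iff]
        intro x _
        rw [Subgroup.mem_center_iff]
        intro y
        have : ⁅y, x⁆ = 1 := by
          rw [← Subgroup.mem_bot, ← h]
          exact Subgroup.commutator_mem_commutator (Subgroup.mem_top y) (Subgroup.mem_top x)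
        exact commutatorElement_eq_one_iff_mul_comm.1 this
      rw [htop, Subgroup.card_top, card_facts.1] at hcard
      norm_num at hcard
    · exact le_antisymm hle (Subgroup.subgroupOf_eq_top.1 h)
  refine ⟨⟨ker_pGroup, ?_, hcomm.trans hcenter.symm⟩, hcard⟩
  refine le_antisymm ?_ ?_
  · rw [hcenter]
    exact FrattiniLe.frattini_le_of_pow_of_commutator (p := 2)
      (fun x => hzp _ (by rw [SubmonoidClass.coe_pow, pow_two]; exact (comm_mod x.2 x.2).2)) hle
  · rw [hcenter, ← hcomm]
    exact Coprime.commutator_le_frattini ker_pGroup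

theorem sp_no_normal_two (N : Subgroup (Matrix.symplecticGroup (Fin 3) (ZMod 2))) [hN : N.Normal]
    (hp : IsPGroup 2 ↥N) : N = ⊥ := by
  haveI : Fact (Nat.Prime 2) := ⟨Nat.prime_two⟩
  have hinj : Function.Injective (QuotientGroup.mk' (Subgroup.center (Matrix.symplecticGroup (Fin 3) (ZMod 2)))) := by
    rw [← MonoidHom.ker_eq_bot_iff, QuotientGroup.ker_mk', eq_bot_iff]
    intro z hz
    rcases CfsgLib.Sp.center_scalar (by norm_num) (A := z) (fun v _ => (Subgroup.mem_center_iff.1 hz _).symm) with h | h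
    · exact Subgroup.mem_bot.2 (Subtype.ext h)
    · exact Subgroup.mem_bot.2 (Subtype.ext (h.trans (by ext a b; exact ZMod.neg_eq_self_mod_two _)))
  haveI hs : IsSimpleGroup (Cfsg.PSp 3 (ZMod 2)) :=
    Classical.psp_isSimple (by norm_num) (fun h => absurd h (by norm_num))
  have hsurj := QuotientGroup.mk'_surjective (Subgroup.center (Matrix.symplecticGroup (Fin 3) (ZMod 2)))
  rcases hs.eq_bot_or_eq_top_of_normal (N.map (QuotientGroup.mk' _)) (hN.map _ hsurj) with h | h
  · exact (Subgroup.map_eq_bot_iff_of_injective N hinj).1 h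
  · exfalso
    have htop : N = ⊤ := by
      rw [← Subgroup.comap_map_eq_self_of_injective hinj N, h, Subgroup.comap_top]
    obtain ⟨n, hn⟩ := IsPGroup.iff_card.1 hp
    rw [htop, Subgroup.card_top, card_sp] at hn
    have h3 : 3 ∣ 2 ^ n := hn ▸ by norm_num
    have := (Nat.prime_dvd_prime_iff_eq Nat.prime_three Nat.prime_two).1 (Nat.prime_three.dvd_of_dvd_pow h3)
    norm_num at this

theorem pCore_eq : Cfsg.pCore 2 ↥Cen = spHom.ker := by
  refine le_antisymm ?_ (CfsgLib.PGroup.le_pCore inferInstance ker_pGroup)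
  haveI : (Cfsg.pCore 2 ↥Cen).Normal := by
    refine ⟨fun x hx g => ?_⟩
    have hmap : (Cfsg.pCore 2 ↥Cen).map (MulAut.conj g).toMonoidHom ≤ Cfsg.pCore 2 ↥Cen := by
      unfold Cfsg.pCore
      rw [sSup_eq_iSup, Subgroup.map_iSup]
      refine iSup_le fun M => ?_
      rw [Subgroup.map_iSup]
      refine iSup_le fun hM => le_trans ?_ (le_iSup₂_of_le M hM le_rfl)
      rintro _ ⟨y, hy, rfl⟩
      exact hM.1.conj_mem y hy g
    exact hmap ⟨x, hx, rfl⟩
  rw [← MonoidHom.comap_bot, ← sp_no_normal_two ((Cfsg.pCore 2 ↥Cen).map spHom)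
    (hN := Subgroup.Normal.map inferInstance _ card_facts.2) ((CfsgLib.PGroup.isPGroup_pCore 2 _).map _)]
  exact Subgroup.le_comap_map _ _

theorem main : ∃ t : ↥CoTwoMult.G0, orderOf t = 2 ∧
    Cfsg.IsExtraspecial 2 (Cfsg.pCore 2 ↥(Subgroup.centralizer ({t} : Set ↥CoTwoMult.G0))) ∧
    Nat.card (Cfsg.pCore 2 ↥(Subgroup.centralizer ({t} : Set ↥CoTwoMult.G0))) = 2 ^ 9 ∧
    Nonempty (↥(Subgroup.centralizer ({t} : Set ↥CoTwoMult.G0)) ⧸
      Cfsg.pCore 2 ↥(Subgroup.centralizer ({t} : Set ↥CoTwoMult.G0)) ≃* Matrix.symplecticGroup (Fin 3) (ZMod 2)) := by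
  refine ⟨τ, orderOf_eq_prime (by rw [pow_two]; exact named_facts.1) named_facts.2.1, ?_, ?_, ?_⟩
  · show Cfsg.IsExtraspecial 2 ↥(Cfsg.pCore 2 ↥Cen)
    rw [pCore_eq]; exact ker_extraspecial
  · show Nat.card ↥(Cfsg.pCore 2 ↥Cen) = _
    rw [pCore_eq, card_facts.1]; norm_num
  · exact ⟨(QuotientGroup.quotientMulEquivOfEq pCore_eq).trans
      (QuotientGroup.quotientKerEquivOfSurjective spHom card_facts.2)⟩

end CfsgLib.Spor.CoTwoInv
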