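import Cfsg.Agent.Lib.Spor.CoTwoInv.Words

/-!
A scan of the short vectors.
-/

set_option autoImplicit false
set_option maxRecDepth 100000
set_option maxHeartbeats 0

namespace CfsgLib.Spor.CoTwoInv

open CfsgLib.Spor.Leech.Census32 CfsgLib.Spor.SchurCert CfsgLib.Spor.SchurCert.MatBridge

theorem scan_minus_even : candScan minusMask minusCands (fapp (fflat (fflat octBlock) octTab) (fflat id fourTab)) = true := by decide +kernel

end CfsgLib.Spor.CoTwoInv
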