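import Cfsg.Agent.Lib.Spor.CoTwoInv.Roots
import Cfsg.Agent.Lib.Spor.CoTwoInv.ScanPlusOdd
import Cfsg.Agent.Lib.Spor.CoTwoInv.ScanPlusEven
import Cfsg.Agent.Lib.Spor.CoTwoInv.ScanMinusOdd
import Cfsg.Agent.Lib.Spor.CoTwoInv.ScanMinusEven
import Cfsg.Agent.Lib.Spor.CoTwoInv.CheckLeaves

/-!
The kernel of the action on the roots: its elements fix the marked vector and the roots, and are determined by the
images of sixteen further vectors, which leaves at most five hundred and twelve of them.
-/

set_option autoImplicit false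
set_option maxRecDepth 100000

namespace CfsgLib.Spor.CoTwoInv

open Cfsg MulAction CfsgLib.Spor.Leech CfsgLib.Spor.Leech.Census32 CfsgLib.Spor.SchurCert
  CfsgLib.Spor.SchurCert.MatBridge

attribute [local irreducible] chosen walk enc

theorem dot_self {x : leechLattice} (hx : sqNorm (x : GolayPt → ℤ) = 32) :
    dotInt (x : GolayPt → ℤ) (x : GolayPt → ℤ) = 32 := by
  rw [← hx, sqNorm, dotInt]
  exact Finset.sum_congr rfl fun i _ => by ring

theorem root_move_sign {g : ↥Cen} (hg : g ∈ spHom.ker) (i : Fin 126) :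
    ∃ s : ℤ, (s = 1 ∨ s = -1) ∧ (g.1.1 • rootV i : leechLattice) = s • rootV i := by
  have hc := cv_move_of_ker hg i
  have hcoord : rootCoords.getD (move g i) 0 = rootCoords.getD i 0 := by
    have hlt : ∀ k : Fin 126, rootCoords.getD k 0 < 64 := fun k => by
      rcases Nat.lt_or_ge k.1 rootCoords.length with hk | hk
      · rw [List.getD_eq_getElem _ _ hk]; exact (rootsOK_facts.1 _ (List.getElem_mem hk)).2
      · rw [List.getD_eq_default _ _ hk]; norm_num
    have key : ∀ a < 64, ∀ b < 64, (∀ k < 6, Nat.testBit a k = Nat.testBit b k) → a = b := by decide +kernel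
    refine key _ (hlt _) _ (hlt _) fun k hk => ?_
    have h0 : ∀ (p q : Bool), (if p then (1 : ZMod 2) else 0) = (if q then 1 else 0) → p = q := by decide
    rcases Nat.lt_or_ge k 3 with h3 | h3
    · exact h0 _ _ (congrFun hc (Sum.inl ⟨k, h3⟩))
    · have := h0 _ _ (congrFun hc (Sum.inr ⟨k - 3, by omega⟩))
      simpa only [Nat.sub_add_cancel h3] using this
  rcases (rootsOK_facts.2.1 (move g i) i).2.2 hcoord with h | h
  · exact ⟨1, Or.inl rfl, by rw [move_spec, h, one_zsmul]⟩
  · refine ⟨-1, Or.inr rfl, ?_⟩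
    have h1 := dval_root (rootV_norm (move g i)) i
    rw [rootV_enc] at h1
    have hadd : sqNorm ((rootV (move g i) : GolayPt → ℤ) + (rootV i : GolayPt → ℤ)) = 0 := by
      rw [sqNorm_add, rootV_norm, rootV_norm]; omega
    rw [move_spec, neg_one_zsmul, eq_neg_iff_add_eq_zero]
    exact Subtype.ext (sqNorm_eq_zero.1 hadd)

theorem dot_zsmul (s : ℤ) (x y : leechLattice) :
    dotInt ((s • x : leechLattice) : GolayPt → ℤ) (y : GolayPt → ℤ) = s * dotInt (x : GolayPt → ℤ) (y : GolayPt → ℤ) := by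
  rw [dotInt, dotInt, Finset.mul_sum]
  refine Finset.sum_congr rfl fun p _ => ?_
  rw [AddSubgroup.coe_zsmul, Pi.smul_apply, smul_eq_mul]
  ring

theorem dot_comm (x y : GolayPt → ℤ) : dotInt x y = dotInt y x := Finset.sum_congr rfl fun i _ => mul_comm _ _

/-- The sign on the connected basis is constant. -/
theorem frame_sign {g : ↥Cen} (hg : g ∈ spHom.ker) : ∃ s : ℤ, (s = 1 ∨ s = -1) ∧
    ∀ j (hj : j < 7), (g.1.1 • rootV ⟨frameAt.getD j 0, (rootsOK_facts.2.2.2.1 j hj).1⟩ : leechLattice) =
      s • rootV ⟨frameAt.getD j 0, (rootsOK_facts.2.2.2.1 j hj).1⟩ := by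
  obtain ⟨s, hs, e0⟩ := root_move_sign hg ⟨frameAt.getD 0 0, (rootsOK_facts.2.2.2.1 0 (by norm_num)).1⟩
  refine ⟨s, hs, fun j => ?_⟩
  induction j using Nat.strong_induction_on with
  | _ j ih =>
    intro hj
    rcases j with _ | j
    · exact e0
    · obtain ⟨k, hk, hne⟩ := rootsOK_facts.2.2.2.2.2 j (by omega)
      set a : Fin 126 := ⟨frameAt.getD (j + 1) 0, (rootsOK_facts.2.2.2.1 (j + 1) hj).1⟩
      set b : Fin 126 := ⟨frameAt.getD k 0, (rootsOK_facts.2.2.2.1 k (by omega)).1⟩
      obtain ⟨t, ht, ea⟩ := root_move_sign hg a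
      have eb : (g.1.1 • rootV b : leechLattice) = s • rootV b := ih k (by omega) (by omega)
      have h1 := dval_root (rootV_norm a) b
      rw [rootV_enc] at h1
      have h2 := co0_dot g.1.1 (rootV a) (rootV b)
      rw [ea, eb, dot_zsmul, dot_comm, dot_zsmul, dot_comm] at h2
      have hd : dotInt (rootV a : GolayPt → ℤ) (rootV b : GolayPt → ℤ) ≠ 0 := by
        intro e
        rw [e] at h1
        exact hne (by exact_mod_cast (show ((dval (roots.getD (a : ℕ) (0, 0)).1 (roots.getD (b : ℕ) (0, 0)) : ℕ) : ℤ) = 14848 by omega))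
      have hst : t * s = 1 := mul_right_cancel₀ hd (by rw [one_mul, mul_assoc]; exact h2)
      have : t = s := by rcases hs with rfl | rfl <;> rcases ht with rfl | rfl <;> omega
      rw [ea, this]

theorem frame_mem (k : ℕ) (hk : k < 8) : frame.getD k (0, 0) ∈ frame := by
  rw [List.getD_eq_getElem _ _ (by rw [lengths.2.1]; exact hk)]
  exact List.getElem_mem _

theorem dval_frame {x : leechLattice} (hx : sqNorm (x : GolayPt → ℤ) = 32) (j : ℕ) (hj : j < 7) :
    (dval (enc (x : GolayPt → ℤ)) (frame.getD (j + 1) (0, 0)) : ℤ) =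
      dotInt (x : GolayPt → ℤ) (rootV ⟨frameAt.getD j 0, (rootsOK_facts.2.2.2.1 j hj).1⟩ : GolayPt → ℤ) + 14848 :=
  dval_enc hx (rootV_norm _) (by rw [rootV_enc]; exact (rootsOK_facts.2.2.2.1 j hj).2) (rev_frame (frame_mem _ (by omega)))

/-- The products with the frame after an element with a sign on the connected basis. -/
theorem dval_moved {g : ↥Cen} {s : ℤ}
    (hsg : ∀ j (hj : j < 7), (g.1.1 • rootV ⟨frameAt.getD j 0, (rootsOK_facts.2.2.2.1 j hj).1⟩ : leechLattice) =
      s • rootV ⟨frameAt.getD j 0, (rootsOK_facts.2.2.2.1 j hj).1⟩) (hs : s = 1 ∨ s = -1)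
    {x : leechLattice} (hx : sqNorm (x : GolayPt → ℤ) = 32) :
    dval (enc ((g.1.1 • x : leechLattice) : GolayPt → ℤ)) (frame.getD 0 (0, 0)) =
        dval (enc (x : GolayPt → ℤ)) (frame.getD 0 (0, 0)) ∧
      ∀ j < 7, (dval (enc ((g.1.1 • x : leechLattice) : GolayPt → ℤ)) (frame.getD (j + 1) (0, 0)) : ℤ) =
        s * ((dval (enc (x : GolayPt → ℤ)) (frame.getD (j + 1) (0, 0)) : ℤ) - 14848) + 14848 := by
  have hgx : sqNorm ((g.1.1 • x : leechLattice) : GolayPt → ℤ) = 32 := by rw [co0_norm]; exact hx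
  refine ⟨?_, fun j hj => ?_⟩
  · have h1 := dval_mark hgx
    have h2 := dval_mark hx
    have h3 := co0_dot g.1.1 x Spor.leechU
    rw [mem_stabilizer_iff.1 g.1.2] at h3
    omega
  · have h1 := dval_frame hgx j hj
    have h2 := dval_frame hx j hj
    have h3 := co0_dot g.1.1 x (rootV ⟨frameAt.getD j 0, (rootsOK_facts.2.2.2.1 j hj).1⟩)
    rw [hsg j hj, dot_comm, dot_zsmul, dot_comm] at h3
    rw [h1, h2, ← h3]
    rcases hs with rfl | rfl <;> ring

theorem fold_congr {α : Type} (f f' : ℕ → α → ℕ) : ∀ (l : List α) (k : ℕ), (∀ a ∈ l, ∀ k, f k a = f' k a) →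
    l.foldl f k = l.foldl f' k
  | [], _, _ => rfl
  | a :: l, k, h => by
    rw [List.foldl_cons, List.foldl_cons, h a List.mem_cons_self k]
    exact fold_congr f f' l _ fun b hb => h b (List.mem_cons_of_mem _ hb)

theorem frame_cons : frame = frame.getD 0 (0, 0) :: frame.tail ∧
    ∀ p ∈ frame.tail, ∃ j < 7, p = frame.getD (j + 1) (0, 0) := by
  have hlen := lengths.2.1
  have hne : frame ≠ [] := fun e => by rw [e] at hlen; simp at hlen
  refine ⟨?_, fun p hp => ?_⟩
  · conv_lhs => rw [← List.cons_head_tail hne]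
    rw [List.head_eq_getElem, List.getD_eq_getElem]
  · obtain ⟨j, hj, rfl⟩ := List.getElem_of_mem hp
    rw [List.length_tail, hlen] at hj
    exact ⟨j, hj, by rw [List.getElem_tail, List.getD_eq_getElem]⟩

theorem frameKey_plus {g : ↥Cen}
    (hsg : ∀ j (hj : j < 7), (g.1.1 • rootV ⟨frameAt.getD j 0, (rootsOK_facts.2.2.2.1 j hj).1⟩ : leechLattice) =
      (1 : ℤ) • rootV ⟨frameAt.getD j 0, (rootsOK_facts.2.2.2.1 j hj).1⟩)
    {x : leechLattice} (hx : sqNorm (x : GolayPt → ℤ) = 32) :
    frameKey (enc ((g.1.1 • x : leechLattice) : GolayPt → ℤ)) = frameKey (enc (x : GolayPt → ℤ)) := by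
  obtain ⟨h0, h1⟩ := dval_moved hsg (Or.inl rfl) hx
  unfold frameKey
  refine fold_congr _ _ _ _ fun p hp k => ?_
  rw [frame_cons.1, List.mem_cons] at hp
  rcases hp with rfl | hp
  · rw [h0]
  · obtain ⟨j, hj, rfl⟩ := frame_cons.2 p hp
    have := h1 j hj
    rw [show dval (enc ((g.1.1 • x : leechLattice) : GolayPt → ℤ)) (frame.getD (j + 1) (0, 0)) =
      dval (enc (x : GolayPt → ℤ)) (frame.getD (j + 1) (0, 0)) by omega]

theorem frameKey_minus {g : ↥Cen}
    (hsg : ∀ j (hj : j < 7), (g.1.1 • rootV ⟨frameAt.getD j 0, (rootsOK_facts.2.2.2.1 j hj).1⟩ : leechLattice) =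
      (-1 : ℤ) • rootV ⟨frameAt.getD j 0, (rootsOK_facts.2.2.2.1 j hj).1⟩)
    {x : leechLattice} (hx : sqNorm (x : GolayPt → ℤ) = 32) :
    frameKey (enc ((g.1.1 • x : leechLattice) : GolayPt → ℤ)) = negKey (enc (x : GolayPt → ℤ)) := by
  obtain ⟨h0, h1⟩ := dval_moved hsg (Or.inr rfl) hx
  unfold frameKey negKey
  conv_lhs => rw [frame_cons.1]
  rw [List.foldl_cons, h0, show Nat.add (Nat.mul 0 32768) (dval (enc (x : GolayPt → ℤ)) (frame.getD 0 (0, 0))) =
    dval (enc (x : GolayPt → ℤ)) (frame.getD 0 (0, 0)) by simp]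
  refine fold_congr _ _ _ _ fun p hp k => ?_
  obtain ⟨j, hj, rfl⟩ := frame_cons.2 p hp
  have := h1 j hj
  congr 1
  show _ = 29696 - dval (enc (x : GolayPt → ℤ)) (frame.getD (j + 1) (0, 0))
  omega

theorem scan_cases {M : ℕ} {L : List (ℕ × List (ℕ × ℕ))}
    (hodd : candScan M L (fflat (fflat oddBlock) oddTab) = true)
    (heven : candScan M L (fapp (fflat (fflat octBlock) octTab) (fflat id fourTab)) = true)
    (hmask : ∀ e ∈ L, Nat.beq (Nat.land (Nat.shiftRight M (e.1 % 4093)) 1) 1 = true) {x : leechLattice}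
    (hx : sqNorm (x : GolayPt → ℤ) = 32) {e : ℕ × List (ℕ × ℕ)} (he : e ∈ L)
    (hkey : frameKey (enc (x : GolayPt → ℤ)) = e.1) : ∃ p ∈ e.2, p.1 = enc (x : GolayPt → ℤ) := by
  have hmem := enc_mem_all32 x.2 hx
  rw [show all32 = fapp (fflat (fflat oddBlock) oddTab) (fapp (fflat (fflat octBlock) octTab) (fflat id fourTab)) from rfl,
    fapp_eq, List.mem_append] at hmem
  have key : ∀ xs : List ℕ, candScan M L xs = true → enc (x : GolayPt → ℤ) ∈ xs →
      ∃ p ∈ e.2, p.1 = enc (x : GolayPt → ℤ) := by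
    intro xs h hm
    simp only [candScan, List.all_eq_true, Bool.or_eq_true, Bool.not_eq_true', List.any_eq_true] at h
    rcases h _ hm with h | h
    · rw [hkey, Nat.eq_of_beq_eq_true (hmask e he)] at h
      exact absurd h (by decide)
    · rcases h e he with h | ⟨p, hp, hb⟩
      · rw [hkey, Nat.beq_refl] at h; exact Bool.noConfusion h
      · exact ⟨p, hp, (Nat.eq_of_beq_eq_true hb).symm⟩
  exact hmem.elim (key _ hodd) (key _ heven)

theorem agree_image (φ : ℕ × ℕ → ℕ × ℕ) (b : ℕ × ℕ) : ∀ prev : List (ℕ × ℕ),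
    (∀ q ∈ prev, dval (φ b).1 (φ q) = dval b.1 q) → agree b (φ b) prev (prev.map φ) = true := by
  intro prev h
  simp only [agree, List.all_eq_true]
  intro q hq
  obtain ⟨a, a'⟩ := q
  have hmap : ∀ l : List (ℕ × ℕ), ∀ a a', (a, a') ∈ l.zip (l.map φ) → a ∈ l ∧ a' = φ a := by
    intro l
    induction l with
    | nil => intro a a' hm; simp at hm
    | cons c l ih =>
      intro a a' hm
      simp only [List.map_cons, List.zip_cons_cons, List.mem_cons, Prod.mk.injEq] at hm
      rcases hm with ⟨rfl, rfl⟩ | hm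
      · exact ⟨List.mem_cons_self, rfl⟩
      · exact ⟨List.mem_cons_of_mem _ (ih a a' hm).1, (ih a a' hm).2⟩
  obtain ⟨ha, rfl⟩ := hmap prev a a' hq
  show Nat.beq (dval (φ b).1 (φ a)) (dval b.1 a) = true
  rw [h a ha]
  exact Nat.beq_refl _

theorem mem_leavesFrom (φ : ℕ × ℕ → ℕ × ℕ) (V : List (ℕ × ℕ))
    (hφ : ∀ a ∈ V, ∀ b ∈ V, dval (φ a).1 (φ b) = dval a.1 b) :
    ∀ (rest : List ((ℕ × ℕ) × List (ℕ × ℕ))) (prev : List (ℕ × ℕ)) (ts : List (List (ℕ × ℕ))),
      (∀ e ∈ rest, e.1 ∈ V ∧ φ e.1 ∈ e.2) → (∀ q ∈ prev, q ∈ V) → prev.map φ ∈ ts →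
      ((rest.map Prod.fst).reverse ++ prev).map φ ∈ leavesFrom rest prev ts
  | [], prev, ts, _, _, h => by simpa [leavesFrom] using h
  | (b, cs) :: rest, prev, ts, hrest, hprev, h => by
    obtain ⟨hb, hc⟩ := hrest _ List.mem_cons_self
    have ih := mem_leavesFrom φ V hφ rest (b :: prev)
      (ts.flatMap fun l => (cs.filter fun c => agree b c prev l).map fun c => c :: l)
      (fun e he => hrest e (List.mem_cons_of_mem _ he))
      (fun q hq => (List.mem_cons.1 hq).elim (fun e => e ▸ hb) (hprev q)) (by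
        rw [List.mem_flatMap]
        refine ⟨_, h, List.mem_map.2 ⟨φ b, List.mem_filter.2 ⟨hc, agree_image φ b prev fun q hq =>
          hφ b hb q (hprev q hq)⟩, ?_⟩⟩
        rw [List.map_cons])
    simpa [leavesFrom] using ih

/-- The image of a packed vector given by a word from the start. -/
noncomputable def image (g : Co0) (ws : List (List ℕ)) (vs : List (ℕ × ℕ)) (p : ℕ × ℕ) : ℕ × ℕ :=
  let c := enc ((g • wordElt elts (ws.getD (vs.idxOf p) []) • CoTwoMult.startVec : leechLattice) : GolayPt → ℤ)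
  (c, CentCheck.revN c)

theorem vec_data : plusWords.length = 16 ∧ plusVecs.length = 16 ∧ plusCands.length = 16 ∧
    minusWords.length = minusVecs.length ∧ minusCands.length = minusVecs.length ∧
    (∀ i < 16, walk table CoTwoMult.startCode (plusWords.getD i []) = (plusVecs.getD i (0, 0)).1 ∧
      (plusCands.getD i (0, [])).1 = frameKey (plusVecs.getD i (0, 0)).1) ∧
    (∀ i < minusVecs.length, walk table CoTwoMult.startCode (minusWords.getD i []) = (minusVecs.getD i (0, 0)).1 ∧
      (minusCands.getD i (0, [])).1 = negKey (minusVecs.getD i (0, 0)).1) := by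
  have h := vecs_check.1
  simp only [vecsOK, Bool.and_eq_true, List.all_eq_true, List.mem_range] at h
  obtain ⟨⟨⟨⟨⟨⟨h1, h2⟩, h3⟩, h4⟩, h5⟩, hp⟩, hm⟩ := h
  have e5 := Nat.eq_of_beq_eq_true h5
  exact ⟨(Nat.eq_of_beq_eq_true h1).trans e5, e5, (Nat.eq_of_beq_eq_true h2).trans e5, Nat.eq_of_beq_eq_true h3,
    Nat.eq_of_beq_eq_true h4,
    fun i hi => ⟨Nat.eq_of_beq_eq_true (hp i hi).1, Nat.eq_of_beq_eq_true (hp i hi).2⟩,
    fun i hi => ⟨Nat.eq_of_beq_eq_true (hm i hi).1, Nat.eq_of_beq_eq_true (hm i hi).2⟩⟩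

theorem image_tuple (g : Co0) (ws : List (List ℕ)) (vs : List (ℕ × ℕ)) (cands : List (ℕ × List (ℕ × ℕ)))
    (hw : ∀ i < vs.length, walk table CoTwoMult.startCode (ws.getD i []) = (vs.getD i (0, 0)).1)
    (hlen : cands.length = vs.length) (hrv : ∀ p ∈ vs, p.2 = CentCheck.revN p.1)
    (hrc : ∀ e ∈ cands, ∀ p ∈ e.2, p.2 = CentCheck.revN p.1)
    (hscan : ∀ i < vs.length, ∀ x : leechLattice, sqNorm (x : GolayPt → ℤ) = 32 →
      enc (x : GolayPt → ℤ) = (vs.getD i (0, 0)).1 →
      ∃ p ∈ (cands.getD i (0, [])).2, p.1 = enc ((g • x : leechLattice) : GolayPt → ℤ)) :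
    vs.reverse.map (image g ws vs) ∈ leavesFrom (vs.zip (cands.map Prod.snd)) [] [[]] := by
  have hx : ∀ p ∈ vs, ∃ x : leechLattice, sqNorm (x : GolayPt → ℤ) = 32 ∧ enc (x : GolayPt → ℤ) = p.1 ∧
      image g ws vs p = (enc ((g • x : leechLattice) : GolayPt → ℤ),
        CentCheck.revN (enc ((g • x : leechLattice) : GolayPt → ℤ))) := by
    intro p hp
    have hi := List.idxOf_lt_length_iff.2 hp
    refine ⟨wordElt elts (ws.getD (vs.idxOf p) []) • CoTwoMult.startVec,
      by rw [co0_norm]; exact CoTwoMult.start_code.2, ?_, rfl⟩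
    rw [← walk_enc isMat_elts (by rw [CoTwoMult.start_code.2]; norm_num), CoTwoMult.start_code.1, hw _ hi,
      List.getD_eq_getElem _ _ hi, List.getElem_idxOf hi]
  have h := mem_leavesFrom (image g ws vs) vs (fun a ha b hb => by
    obtain ⟨x, hxn, hxe, ea⟩ := hx a ha
    obtain ⟨y, hyn, hye, eb⟩ := hx b hb
    rw [ea, eb]
    have h1 := dval_enc (x := g • x) (y := g • y) (by rw [co0_norm]; exact hxn) (by rw [co0_norm]; exact hyn)
      (p := (enc ((g • y : leechLattice) : GolayPt → ℤ), CentCheck.revN (enc ((g • y : leechLattice) : GolayPt → ℤ))))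
      rfl rfl
    have h2 := dval_enc hxn hyn hye.symm (hrv b hb)
    rw [hxe] at h2
    rw [co0_dot] at h1
    dsimp only at h1 ⊢
    omega) (vs.zip (cands.map Prod.snd)) [] [[]] (fun e he => by
      obtain ⟨i, hi, rfl⟩ := List.getElem_of_mem he
      rw [List.length_zip, List.length_map, hlen, Nat.min_self] at hi
      rw [List.getElem_zip, List.getElem_map]
      refine ⟨List.getElem_mem _, ?_⟩
      obtain ⟨x, hxn, hxe, e⟩ := hx _ (List.getElem_mem (l := vs) hi)
      obtain ⟨p, hp, hpe⟩ := hscan i hi x hxn (by rw [List.getD_eq_getElem _ _ hi]; exact hxe)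
      rw [List.getD_eq_getElem _ _ (hlen.symm ▸ hi)] at hp
      rw [e, ← hpe, ← hrc _ (List.getElem_mem _) p hp]
      exact hp) (by simp) (by simp)
  rwa [List.map_fst_zip (by rw [List.length_map, hlen]), List.append_nil] at h

theorem masks_ok : (∀ e ∈ plusCands, Nat.beq (Nat.land (Nat.shiftRight plusMask (e.1 % 4093)) 1) 1 = true) ∧
    ∀ e ∈ minusCands, Nat.beq (Nat.land (Nat.shiftRight minusMask (e.1 % 4093)) 1) 1 = true := by
  simpa only [masksOK, Bool.and_eq_true, List.all_eq_true] using masks_check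

/-- No element negates the connected basis. -/
theorem kernel_fixes {g : ↥Cen} (hg : g ∈ spHom.ker) (j : ℕ) (hj : j < 7) :
    (g.1.1 • rootV ⟨frameAt.getD j 0, (rootsOK_facts.2.2.2.1 j hj).1⟩ : leechLattice) =
      rootV ⟨frameAt.getD j 0, (rootsOK_facts.2.2.2.1 j hj).1⟩ := by
  obtain ⟨s, hs, hsg⟩ := frame_sign hg
  rcases hs with rfl | rfl
  · rw [hsg j hj, one_zsmul]
  · exfalso
    obtain ⟨-, -, -, -, hcl, -, hm⟩ := vec_data
    have h := image_tuple g.1.1 minusWords minusVecs minusCands (fun i hi => (hm i hi).1) hcl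
      (fun p hp => rev_minus hp)
      (fun e he p hp => rev_minusCands he hp)
      (fun i hi x hx hxe => scan_cases scan_minus_odd scan_minus_even masks_ok.2
        (x := g.1.1 • x) (by rw [co0_norm]; exact hx)
        (by rw [List.getD_eq_getElem _ _ (hcl.symm ▸ hi)]; exact List.getElem_mem _)
        (by rw [frameKey_minus hsg hx, hxe, (hm i hi).2]))
    have := List.length_pos_of_mem h
    rw [show leavesFrom (minusVecs.zip (minusCands.map Prod.snd)) [] [[]] = minusLeaves from rfl, leaves_check.2] at this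
    exact Nat.lt_irrefl 0 this

theorem span_facts : 0 < den ∧ ∀ i < 24, ∀ j < 24,
    CentCheck.wsum (span.getD i []) ((frame ++ plusVecs).map fun v => CentCheck.dig v.1 j) =
      (den : ℤ) * (if i == j then 8 else 0) := by
  have h := vecs_check.2
  simp only [spanOK, Bool.and_eq_true, List.all_eq_true, List.mem_range] at h
  exact ⟨Nat.le_of_ble_eq_true h.1.1, fun i hi j hj => eq_of_beq ((h.2 i hi).2 j hj)⟩

/-- The images of the sixteen vectors determine an element of the kernel. -/
theorem kernel_ext {g h : ↥Cen} (hg : g ∈ spHom.ker) (hh : h ∈ spHom.ker)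
    (e : plusVecs.reverse.map (image g.1.1 plusWords plusVecs) =
      plusVecs.reverse.map (image h.1.1 plusWords plusVecs)) : g = h := by
  obtain ⟨hlw, hlv, -, -, -, hp, -⟩ := vec_data
  set X : List leechLattice := Spor.leechU ::
    ((List.finRange 7).map fun j : Fin 7 => rootV ⟨frameAt.getD j 0, (rootsOK_facts.2.2.2.1 j j.2).1⟩) ++
      plusWords.map fun w => wordElt elts w • CoTwoMult.startVec
  have hnorm : ∀ v ∈ X, sqNorm (v : GolayPt → ℤ) = 32 := by
    intro v hv
    simp only [X, List.cons_append, List.mem_cons, List.mem_append, List.mem_map] at hv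
    rcases hv with rfl | ⟨j, -, rfl⟩ | ⟨w, -, rfl⟩
    · exact CoTwoMult.mark_code.2
    · exact rootV_norm _
    · rw [co0_norm]; exact CoTwoMult.start_code.2
  have hagree : ∀ v ∈ X, g.1.1 • v = h.1.1 • v := by
    intro v hv
    simp only [X, List.cons_append, List.mem_cons, List.mem_append, List.mem_map] at hv
    rcases hv with rfl | ⟨j, -, rfl⟩ | ⟨w, hw, rfl⟩
    · rw [mem_stabilizer_iff.1 g.1.2, mem_stabilizer_iff.1 h.1.2]
    · rw [kernel_fixes hg j j.2, kernel_fixes hh j j.2]
    · obtain ⟨i, hi, rfl⟩ := List.getElem_of_mem hw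
      have hi' : i < plusVecs.length := by omega
      set p := plusVecs[i]
      have hidx := List.idxOf_lt_length_iff.2 (List.getElem_mem hi' : p ∈ plusVecs)
      have e' := List.map_inj_left.1 e p (by simp [p])
      simp only [image, Prod.mk.injEq] at e'
      have e2 := e'.1
      set k := plusVecs.idxOf p
      have hk : (plusVecs.getD k (0, 0)).1 = (plusVecs.getD i (0, 0)).1 := by
        rw [List.getD_eq_getElem _ _ hidx, List.getD_eq_getElem _ _ hi', List.getElem_idxOf hidx]
      have hsame : wordElt elts (plusWords.getD k []) • CoTwoMult.startVec =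
          wordElt elts plusWords[i] • CoTwoMult.startVec := by
        refine code_inj (by rw [co0_norm]; exact CoTwoMult.start_code.2) (by rw [co0_norm]; exact CoTwoMult.start_code.2) ?_
        rw [← walk_enc isMat_elts (by rw [CoTwoMult.start_code.2]; norm_num),
          ← walk_enc isMat_elts (by rw [CoTwoMult.start_code.2]; norm_num), CoTwoMult.start_code.1, (hp k (by omega)).1,
          hk, ← (hp i (by omega)).1]
        exact congrArg (walk table CoTwoMult.startCode) (List.getD_eq_getElem plusWords [] hi)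
      rw [hsame] at e2
      exact code_inj (by rw [co0_norm, co0_norm]; exact CoTwoMult.start_code.2)
        (by rw [co0_norm, co0_norm]; exact CoTwoMult.start_code.2) e2
  have hcodes : X.map (fun v : leechLattice => enc (v : GolayPt → ℤ)) = (frame ++ plusVecs).map Prod.fst := by
    obtain ⟨hf, -⟩ := frame_cons
    have hA : ((List.finRange 7).map fun j : Fin 7 =>
        (roots.getD (frameAt.getD j 0) (0, 0)).1) = frame.tail.map Prod.fst := by
      apply List.ext_getElem
      · simp [lengths.2.1]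
      · intro k h1 h2
        have hk : k < 7 := by simpa using h1
        rw [List.getElem_map, List.getElem_map, List.getElem_tail, List.getElem_finRange,
          ← List.getD_eq_getElem frame (0, 0) (by rw [lengths.2.1]; omega)]
        exact (rootsOK_facts.2.2.2.1 k hk).2.symm
    have hB : (plusWords.map fun w => walk table CoTwoMult.startCode w) = plusVecs.map Prod.fst := by
      apply List.ext_getElem
      · simp [hlw, hlv]
      · intro k h1 h2
        have hk : k < 16 := by simpa [hlw] using h1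
        rw [List.getElem_map, List.getElem_map, ← List.getD_eq_getElem plusWords [] (by omega),
          ← List.getD_eq_getElem plusVecs (0, 0) (by omega)]
        exact (hp k hk).1
    simp only [X, List.cons_append, List.map_cons, List.map_append, List.map_map]
    conv_rhs => rw [hf, List.map_cons, List.cons_append, ← hA, ← hB]
    congr 1
    · rw [CoTwoMult.mark_code.1, lengths.2.2]
    congr 1
    · exact List.map_congr_left fun j _ => rootV_enc _
    · refine List.map_congr_left fun w _ => ?_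
      rw [Function.comp_apply, ← walk_enc isMat_elts (by rw [CoTwoMult.start_code.2]; norm_num),
        CoTwoMult.start_code.1]
  obtain ⟨hden, hrow⟩ := span_facts
  refine Subtype.ext (Subtype.ext (co0_ext fun q => ?_))
  set co := span.getD (ptIdx q) []
  have hcomb : CentCheck.comb co X = (den : ℤ) • eight q := by
    refine Subtype.ext (funext fun p => ?_)
    rw [CentCheck.comb_apply]
    have h := hrow (ptIdx q) (ptIdx_lt q) (ptIdx p) (ptIdx_lt p)
    rw [show (frame ++ plusVecs).map (fun v => CentCheck.dig v.1 (ptIdx p)) =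
        ((frame ++ plusVecs).map Prod.fst).map fun c => CentCheck.dig c (ptIdx p) by rw [List.map_map]; rfl,
      ← hcodes, List.map_map] at h
    rw [List.map_congr_left (g := fun v : leechLattice => CentCheck.dig (enc (v : GolayPt → ℤ)) (ptIdx p)) fun v hv => by
      rw [CentCheck.dig_enc (small_of_norm (by rw [hnorm v hv]; norm_num)) (ptIdx_lt p), idxPt_ptIdx],
      show (fun v : leechLattice => CentCheck.dig (enc (v : GolayPt → ℤ)) (ptIdx p)) =
        (fun c => CentCheck.dig c (ptIdx p)) ∘ fun v : leechLattice => enc (v : GolayPt → ℤ) from rfl, h,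
      AddSubgroup.coe_zsmul, Pi.smul_apply, smul_eq_mul]
    congr 1
    show _ = (Pi.single q (8 : ℤ) : GolayPt → ℤ) p
    rcases eq_or_ne q p with rfl | hne
    · simp
    · rw [Pi.single_eq_of_ne (Ne.symm hne), if_neg]
      simp only [beq_iff_eq]
      exact fun e => hne (ptIdx_injective e)
  have h1 : (den : ℤ) • (g.1.1 • eight q) = (den : ℤ) • (h.1.1 • eight q) := by
    rw [← co0_zsmul, ← co0_zsmul, ← hcomb, CentCheck.smul_comb, CentCheck.smul_comb, List.map_congr_left hagree]
  refine Subtype.ext (funext fun p => ?_)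
  have h2 := congrFun (congrArg Subtype.val h1) p
  simp only [AddSubgroup.coe_zsmul, Pi.smul_apply, smul_eq_mul] at h2
  exact mul_left_cancel₀ (by omega) h2

theorem kernel_leaf {g : ↥Cen} (hg : g ∈ spHom.ker) :
    plusVecs.reverse.map (image g.1.1 plusWords plusVecs) ∈ plusLeaves := by
  obtain ⟨-, hlv, hcl, -, -, hp, -⟩ := vec_data
  exact image_tuple g.1.1 plusWords plusVecs plusCands (fun i hi => (hp i (hlv ▸ hi)).1) (hcl.trans hlv.symm)
    (fun p hp' => rev_plus hp')
    (fun e he p hp' => rev_plusCands he hp')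
    (fun i hi x hx hxe => scan_cases scan_plus_odd scan_plus_even masks_ok.1
      (x := g.1.1 • x) (by rw [co0_norm]; exact hx)
      (by rw [List.getD_eq_getElem _ _ (hcl.symm ▸ hlv ▸ hi)]; exact List.getElem_mem _)
      (by rw [frameKey_plus (fun j hj => by rw [one_zsmul]; exact kernel_fixes hg j hj) hx, hxe,
        (hp i (hlv ▸ hi)).2]))

theorem kernel_card_le : Nat.card ↥spHom.ker ≤ 512 := by
  classical
  let f : ↥spHom.ker → {l // l ∈ plusLeaves.toFinset} := fun g =>
    ⟨plusVecs.reverse.map (image g.1.1.1 plusWords plusVecs), List.mem_toFinset.2 (kernel_leaf g.2)⟩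
  have hf : Function.Injective f := fun g h e => Subtype.ext (kernel_ext g.2 h.2 (congrArg Subtype.val e))
  refine (Nat.card_le_card_of_injective f hf).trans ?_
  rw [Nat.card_eq_finsetCard]
  exact (List.toFinset_card_le _).trans (Nat.le_of_ble_eq_true leaves_check.1)

end CfsgLib.Spor.CoTwoInv
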