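import Cfsg.Agent.Lib.Spor.CoTwoInv.Elts
import Cfsg.Agent.Lib.Spor.CoTwoInv.ScanRootsOdd
import Cfsg.Agent.Lib.Spor.CoTwoInv.ScanRootsEven
import Cfsg.Agent.Lib.Sp.Basic

/-!
The centralizer of the involution permutes the fixed vectors orthogonal to the marked one, and so acts on their
classes modulo two by symplectic matrices.
-/

set_option autoImplicit false
set_option maxRecDepth 100000

namespace CfsgLib.Spor.CoTwoInv

open Cfsg MulAction Matrix CfsgLib.Spor.Leech CfsgLib.Spor.Leech.Census32 CfsgLib.Spor.SchurCert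
  CfsgLib.Spor.SchurCert.MatBridge

attribute [local irreducible] chosen walk enc

theorem lengths : roots.length = 126 ∧ frame.length = 8 ∧ frame.getD 0 (0, 0) = (CoTwoMult.markCode, (frame.getD 0 (0, 0)).2) := by
  refine ⟨by decide +kernel, by decide +kernel, by decide +kernel⟩

theorem rev_ok {p : ℕ × ℕ} (h : p ∈ frame ++ roots ++ plusVecs ++ minusVecs ++ plusCands.flatMap Prod.snd ++
    minusCands.flatMap Prod.snd) : p.2 = CentCheck.revN p.1 := by
  have h' := revs_check
  simp only [revsOK, List.all_eq_true] at h'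
  exact Nat.eq_of_beq_eq_true (h' p h)

theorem rev_frame {p : ℕ × ℕ} (h : p ∈ frame) : p.2 = CentCheck.revN p.1 :=
  rev_ok (List.mem_append_left _ (List.mem_append_left _ (List.mem_append_left _ (List.mem_append_left _
    (List.mem_append_left _ h)))))

theorem rev_root {p : ℕ × ℕ} (h : p ∈ roots) : p.2 = CentCheck.revN p.1 :=
  rev_ok (List.mem_append_left _ (List.mem_append_left _ (List.mem_append_left _ (List.mem_append_left _
    (List.mem_append_right _ h)))))

theorem rev_plus {p : ℕ × ℕ} (h : p ∈ plusVecs) : p.2 = CentCheck.revN p.1 :=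
  rev_ok (List.mem_append_left _ (List.mem_append_left _ (List.mem_append_left _ (List.mem_append_right _ h))))

theorem rev_minus {p : ℕ × ℕ} (h : p ∈ minusVecs) : p.2 = CentCheck.revN p.1 :=
  rev_ok (List.mem_append_left _ (List.mem_append_left _ (List.mem_append_right _ h)))

theorem rev_plusCands {e : ℕ × List (ℕ × ℕ)} (he : e ∈ plusCands) {p : ℕ × ℕ} (h : p ∈ e.2) :
    p.2 = CentCheck.revN p.1 :=
  rev_ok (List.mem_append_left _ (List.mem_append_right _ (List.mem_flatMap.2 ⟨e, he, h⟩)))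

theorem rev_minusCands {e : ℕ × List (ℕ × ℕ)} (he : e ∈ minusCands) {p : ℕ × ℕ} (h : p ∈ e.2) :
    p.2 = CentCheck.revN p.1 :=
  rev_ok (List.mem_append_right _ (List.mem_flatMap.2 ⟨e, he, h⟩))

theorem root_mem (i : Fin 126) : roots.getD i (0, 0) ∈ roots := by
  rw [List.getD_eq_getElem _ _ (by rw [lengths.1]; exact i.2)]
  exact List.getElem_mem _

theorem root_decode (i : Fin 126) : leechTest (dec (roots.getD i (0, 0)).1) = true ∧
    sqNorm (dec (roots.getD i (0, 0)).1) = 32 ∧ enc (dec (roots.getD i (0, 0)).1) = (roots.getD i (0, 0)).1 := by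
  have h := decode_check
  simp only [List.all_eq_true, decodeOK, Bool.and_eq_true, beq_iff_eq] at h
  obtain ⟨⟨h1, h2⟩, h3⟩ := h _ (root_mem i)
  exact ⟨h1, h2, Nat.eq_of_beq_eq_true h3⟩

/-- A root. -/
def rootV (i : Fin 126) : leechLattice := ⟨dec (roots.getD i (0, 0)).1, leechTest_spec (root_decode i).1⟩

theorem rootV_norm (i : Fin 126) : sqNorm (rootV i : GolayPt → ℤ) = 32 := (root_decode i).2.1

theorem rootV_enc (i : Fin 126) : enc (rootV i : GolayPt → ℤ) = (roots.getD i (0, 0)).1 := (root_decode i).2.2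

theorem dval_root {x : leechLattice} (hx : sqNorm (x : GolayPt → ℤ) = 32) (j : Fin 126) :
    (dval (enc (x : GolayPt → ℤ)) (roots.getD j (0, 0)) : ℤ) = dotInt (x : GolayPt → ℤ) (rootV j : GolayPt → ℤ) + 14848 :=
  dval_enc hx (rootV_norm j) (rootV_enc j).symm (rev_root (root_mem j))

theorem dval_mark {x : leechLattice} (hx : sqNorm (x : GolayPt → ℤ) = 32) :
    (dval (enc (x : GolayPt → ℤ)) (frame.getD 0 (0, 0)) : ℤ) =
      dotInt (x : GolayPt → ℤ) (Spor.leechU : GolayPt → ℤ) + 14848 := by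
  refine dval_enc hx CoTwoMult.mark_code.2 ?_ (rev_frame ?_)
  · rw [CoTwoMult.mark_code.1, lengths.2.2]
  · rw [List.getD_eq_getElem _ _ (by rw [lengths.2.1]; norm_num)]
    exact List.getElem_mem _

theorem rootsOK_facts : (∀ c ∈ rootCoords, 0 < c ∧ c < 64) ∧
    (∀ i j : Fin 126, dval (roots.getD i (0, 0)).1 (roots.getD j (0, 0)) % 16 = 0 ∧
      dval (roots.getD i (0, 0)).1 (roots.getD j (0, 0)) / 16 % 2 =
        formBit (rootCoords.getD i 0) (rootCoords.getD j 0) % 2 ∧
      (rootCoords.getD i 0 = rootCoords.getD j 0 → i = j ∨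
        dval (roots.getD i (0, 0)).1 (roots.getD j (0, 0)) = 14816)) ∧
    (∀ i < 6, basisAt.getD i 0 < 126 ∧ rootCoords.getD (basisAt.getD i 0) 0 = 2 ^ i) ∧
    (∀ i < 7, frameAt.getD i 0 < 126 ∧ (frame.getD (i + 1) (0, 0)).1 = (roots.getD (frameAt.getD i 0) (0, 0)).1) ∧
    (∀ p ∈ roots, dval p.1 (frame.getD 0 (0, 0)) = 14848) ∧
    (∀ i < 6, ∃ j < i + 1,
      dval (roots.getD (frameAt.getD (i + 1) 0) (0, 0)).1 (roots.getD (frameAt.getD j 0) (0, 0)) ≠ 14848) := by
  have h := roots_check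
  simp only [rootsOK, Bool.and_eq_true, Bool.or_eq_true, List.all_eq_true, List.any_eq_true, List.mem_range,
    Bool.not_eq_true'] at h
  obtain ⟨⟨⟨⟨⟨⟨⟨⟨⟨-, -⟩, hc⟩, hpair⟩, hb⟩, -⟩, -⟩, hfr⟩, hu⟩, hconn⟩ := h
  refine ⟨fun c hc' => ⟨Nat.le_of_ble_eq_true (hc c hc').1, Nat.le_of_ble_eq_true (hc c hc').2⟩,
    fun i j => ⟨Nat.eq_of_beq_eq_true (hpair i i.2 j j.2).1.1, Nat.eq_of_beq_eq_true (hpair i i.2 j j.2).1.2,
      fun e => ?_⟩,
    fun i hi => ⟨Nat.le_of_ble_eq_true (hb i hi).1, Nat.eq_of_beq_eq_true (hb i hi).2⟩,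
    fun i hi => ⟨Nat.le_of_ble_eq_true (hfr i hi).1, Nat.eq_of_beq_eq_true (hfr i hi).2⟩,
    fun p hp => Nat.eq_of_beq_eq_true (hu p hp), fun i hi => ?_⟩
  · rcases (hpair i i.2 j j.2).2 with (h | h) | h
    · rw [e, Nat.beq_refl] at h; exact Bool.noConfusion h
    · exact Or.inl (Fin.ext (Nat.eq_of_beq_eq_true h))
    · exact Or.inr (Nat.eq_of_beq_eq_true h)
  · obtain ⟨j, hj, h⟩ := hconn i hi
    exact ⟨j, hj, fun e => by rw [e, Nat.beq_refl] at h; exact Bool.noConfusion h⟩

theorem rootV_injective : Function.Injective rootV := by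
  intro i j e
  have h := congrArg (fun v : leechLattice => (enc (v : GolayPt → ℤ))) e
  simp only [rootV_enc] at h
  by_contra hne
  obtain ⟨hd, hpar, hsame⟩ := rootsOK_facts.2.1 i j
  have h1 := dval_root (rootV_norm i) j
  rw [rootV_enc, e, show dotInt (rootV j : GolayPt → ℤ) (rootV j : GolayPt → ℤ) = 32 by
    rw [← rootV_norm j, sqNorm, dotInt]; exact Finset.sum_congr rfl fun x _ => by ring] at h1
  obtain ⟨hd', hpar', hsame'⟩ := rootsOK_facts.2.1 i i
  have h2 := dval_root (rootV_norm i) i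
  rw [rootV_enc, show dotInt (rootV i : GolayPt → ℤ) (rootV i : GolayPt → ℤ) = 32 by
    rw [← rootV_norm i, sqNorm, dotInt]; exact Finset.sum_congr rfl fun x _ => by ring] at h2
  have hall : ∀ k : Fin 126, dval (roots.getD i (0, 0)).1 (roots.getD k (0, 0)) =
      dval (roots.getD j (0, 0)).1 (roots.getD k (0, 0)) := fun k => by rw [h]
  have hcoord : rootCoords.getD i 0 = rootCoords.getD j 0 := by
    have key : ∀ a < 64, ∀ b < 64, (∀ k < 6, formBit a (2 ^ k) % 2 = formBit b (2 ^ k) % 2) → a = b := by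
      decide +kernel
    have hlt : ∀ k : Fin 126, rootCoords.getD k 0 < 64 := fun k => by
      rcases Nat.lt_or_ge k.1 rootCoords.length with hk | hk
      · rw [List.getD_eq_getElem _ _ hk]; exact (rootsOK_facts.1 _ (List.getElem_mem hk)).2
      · rw [List.getD_eq_default _ _ hk]; norm_num
    refine key _ (hlt i) _ (hlt j) fun k hk => ?_
    obtain ⟨hb1, hb2⟩ := rootsOK_facts.2.2.1 k hk
    have a1 := (rootsOK_facts.2.1 i ⟨_, hb1⟩).2.1
    have a2 := (rootsOK_facts.2.1 j ⟨_, hb1⟩).2.1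
    have a3 := hall ⟨_, hb1⟩
    dsimp only at a1 a2 a3
    rw [hb2] at a1 a2
    rw [← a1, ← a2, a3]
  rcases hsame hcoord with h3 | h3
  · exact hne h3
  · omega

/-- The centralizer. -/
abbrev Cen : Subgroup ↥CoTwoMult.G0 := Subgroup.centralizer ({τ} : Set ↥CoTwoMult.G0)

theorem cen_comm (g : ↥Cen) : g.1.1 * τ.1 = τ.1 * g.1.1 :=
  congrArg Subtype.val (Subgroup.mem_centralizer_singleton_iff.1 g.2)

theorem tau_word : invWordT = [170] := by decide +kernel

theorem tau_root (i : Fin 126) : τ.1 • rootV i = rootV i := by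
  obtain ⟨-, -, -, hfix, -⟩ := named_facts
  have hm : invWordT ∈ normGens := by decide +kernel
  have e := hfix _ hm _ (root_mem i)
  rw [← rootV_enc i, el_walk (by rw [tau_word]; simp) (rootV_norm i)] at e
  exact code_inj (by rw [co0_norm]; exact rootV_norm i) (rootV_norm i) e

theorem exists_image (g : ↥Cen) (i : Fin 126) : ∃ j, g.1.1 • rootV i = rootV j := by
  have hn : sqNorm ((g.1.1 • rootV i : leechLattice) : GolayPt → ℤ) = 32 := by rw [co0_norm]; exact rootV_norm i
  have hmem := enc_mem_all32 (g.1.1 • rootV i).2 hn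
  rw [show all32 = fapp (fflat (fflat oddBlock) oddTab) (fapp (fflat (fflat octBlock) octTab) (fflat id fourTab)) from rfl,
    fapp_eq, List.mem_append] at hmem
  have hdot : dval (enc ((g.1.1 • rootV i : leechLattice) : GolayPt → ℤ)) (frame.getD 0 (0, 0)) = 14848 := by
    have h1 := dval_mark hn
    have h2 := dval_mark (rootV_norm i)
    rw [rootV_enc, rootsOK_facts.2.2.2.2.1 _ (root_mem i)] at h2
    have h3 := co0_dot g.1.1 (rootV i) Spor.leechU
    rw [mem_stabilizer_iff.1 g.1.2] at h3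
    omega
  have hfix : step (table.getD 170 oneMat) (enc ((g.1.1 • rootV i : leechLattice) : GolayPt → ℤ)) =
      enc ((g.1.1 • rootV i : leechLattice) : GolayPt → ℤ) := by
    have e : τ.1 = elts.getD 170 1 := by
      rw [melt_val elts_mem (by rw [tau_word]; simp), tau_word]; simp [wordElt]
    rw [step_enc (isMat_elts 170) (by rw [hn]; norm_num), ← e, ← mul_smul, ← cen_comm g, mul_smul, tau_root]
  have key : ∀ xs : List ℕ, rootScan xs = true → enc ((g.1.1 • rootV i : leechLattice) : GolayPt → ℤ) ∈ xs →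
      ∃ j, g.1.1 • rootV i = rootV j := by
    intro xs h hx
    simp only [rootScan, List.all_eq_true, Bool.or_eq_true, Bool.not_eq_true', List.any_eq_true] at h
    rcases h _ hx with h | ⟨p, hp, hb⟩
    · rw [hdot, hfix, Nat.beq_refl, Nat.beq_refl] at h; exact absurd h (by simp)
    · obtain ⟨j, hj, rfl⟩ := List.getElem_of_mem hp
      refine ⟨⟨j, lengths.1 ▸ hj⟩, code_inj hn (rootV_norm _) ?_⟩
      rw [Nat.eq_of_beq_eq_true hb, rootV_enc]
      exact congrArg Prod.fst (List.getD_eq_getElem _ _ hj).symm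
  exact hmem.elim (key _ scan_roots_odd) (key _ scan_roots_even)

/-- The index of the image of a root. -/
noncomputable def move (g : ↥Cen) (i : Fin 126) : Fin 126 := (exists_image g i).choose

theorem move_spec (g : ↥Cen) (i : Fin 126) : g.1.1 • rootV i = rootV (move g i) := (exists_image g i).choose_spec

theorem move_mul (g h : ↥Cen) (i : Fin 126) : move (g * h) i = move g (move h i) := by
  refine rootV_injective ?_
  rw [← move_spec, ← move_spec, ← move_spec, ← mul_smul]
  rfl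

theorem move_one (i : Fin 126) : move 1 i = i := by
  refine rootV_injective ?_
  rw [← move_spec, OneMemClass.coe_one, OneMemClass.coe_one, one_smul]

/-- The coordinates of a root modulo two. -/
def cv (i : Fin 126) : Fin 3 ⊕ Fin 3 → ZMod 2 :=
  Sum.elim (fun k => if (rootCoords.getD i 0).testBit k then 1 else 0)
    (fun k => if (rootCoords.getD i 0).testBit (k + 3) then 1 else 0)

/-- The place of a basis root. -/
def basisRoot : Fin 3 ⊕ Fin 3 → Fin 126 :=
  Sum.elim (fun k => ⟨basisAt.getD k 0, (rootsOK_facts.2.2.1 k (by omega)).1⟩)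
    (fun k => ⟨basisAt.getD (k + 3) 0, (rootsOK_facts.2.2.1 (k + 3) (by omega)).1⟩)

theorem cv_basis (b : Fin 3 ⊕ Fin 3) : cv (basisRoot b) = Pi.single b 1 := by
  funext a
  rcases b with b | b
  · have e := (rootsOK_facts.2.2.1 b (by omega)).2
    rcases a with a | a <;> simp only [cv, basisRoot, Sum.elim_inl, Sum.elim_inr, e]
    · fin_cases a <;> fin_cases b <;> rfl
    · fin_cases a <;> fin_cases b <;> rfl
  · have e := (rootsOK_facts.2.2.1 (b + 3) (by omega)).2
    rcases a with a | a <;> simp only [cv, basisRoot, Sum.elim_inl, Sum.elim_inr, e]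
    · fin_cases a <;> fin_cases b <;> rfl
    · fin_cases a <;> fin_cases b <;> rfl

theorem form_bits : ∀ a < 64, ∀ b < 64,
    (∑ k : Fin 3, ((if Nat.testBit a (k + 3) then (1 : ZMod 2) else 0) * (if Nat.testBit b k then 1 else 0) -
      (if Nat.testBit a k then 1 else 0) * (if Nat.testBit b (k + 3) then 1 else 0))) =
      if formBit a b % 2 = 1 then 1 else 0 := by
  decide +kernel

theorem sf_cv (i j : Fin 126) : CfsgLib.Sp.sf (cv i) (cv j) =
    if dval (roots.getD i (0, 0)).1 (roots.getD j (0, 0)) / 16 % 2 = 1 then 1 else 0 := by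
  have hlt : ∀ k : Fin 126, rootCoords.getD k 0 < 64 := fun k => by
    rcases Nat.lt_or_ge k.1 rootCoords.length with hk | hk
    · rw [List.getD_eq_getElem _ _ hk]; exact (rootsOK_facts.1 _ (List.getElem_mem hk)).2
    · rw [List.getD_eq_default _ _ hk]; norm_num
  rw [(rootsOK_facts.2.1 i j).2.1, ← form_bits _ (hlt i) _ (hlt j), CfsgLib.Sp.sf_eq]
  rfl

theorem sf_move (g : ↥Cen) (i j : Fin 126) :
    CfsgLib.Sp.sf (cv (move g i)) (cv (move g j)) = CfsgLib.Sp.sf (cv i) (cv j) := by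
  have e : dval (roots.getD (move g i) (0, 0)).1 (roots.getD (move g j) (0, 0)) =
      dval (roots.getD i (0, 0)).1 (roots.getD j (0, 0)) := by
    have h1 := dval_root (rootV_norm (move g i)) (move g j)
    have h2 := dval_root (rootV_norm i) j
    rw [rootV_enc] at h1 h2
    rw [← move_spec, ← move_spec, co0_dot] at h1
    omega
  rw [sf_cv, sf_cv, e]

/-- The matrix of an element. -/
noncomputable def mat (g : ↥Cen) : Matrix (Fin 3 ⊕ Fin 3) (Fin 3 ⊕ Fin 3) (ZMod 2) :=
  Matrix.of fun a b => cv (move g (basisRoot b)) a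

theorem mat_single (g : ↥Cen) (b : Fin 3 ⊕ Fin 3) : mat g *ᵥ Pi.single b 1 = cv (move g (basisRoot b)) := by
  funext a
  simp [mat, Matrix.mulVec_single_one]

theorem mat_mem (g : ↥Cen) : mat g ∈ Matrix.symplecticGroup (Fin 3) (ZMod 2) := by
  rw [CfsgLib.Sp.mem_sp_iff]
  intro u v
  have hb : ∀ a b, CfsgLib.Sp.sf (mat g *ᵥ Pi.single a 1) (mat g *ᵥ Pi.single b 1) =
      CfsgLib.Sp.sf (Pi.single a (1 : ZMod 2)) (Pi.single b 1) := fun a b => by
    rw [mat_single, mat_single, sf_move, cv_basis, cv_basis]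
  let R : (Fin 3 ⊕ Fin 3 → ZMod 2) → (Fin 3 ⊕ Fin 3 → ZMod 2) →ₗ[ZMod 2] ZMod 2 := fun a =>
    { toFun := fun w => CfsgLib.Sp.sf a w
      map_add' := CfsgLib.Sp.sf_add_right a
      map_smul' := fun c w => CfsgLib.Sp.sf_smul_right c a w }
  have h1 : ∀ a, CfsgLib.Sp.sf (mat g *ᵥ Pi.single a 1) (mat g *ᵥ v) = CfsgLib.Sp.sf (Pi.single a 1) v := fun a => by
    have e : (R (mat g *ᵥ Pi.single a 1)).comp (Matrix.toLin' (mat g)) = R (Pi.single a 1) :=
      LinearMap.pi_ext' fun b => LinearMap.ext_ring (hb a b)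
    exact LinearMap.congr_fun e v
  have hl : (CfsgLib.Sp.sfLin (mat g *ᵥ v)).comp (Matrix.toLin' (mat g)) = CfsgLib.Sp.sfLin v := by
    refine LinearMap.pi_ext' fun a => LinearMap.ext_ring ?_
    exact h1 a
  exact LinearMap.congr_fun hl u

/-- The action on the classes of the roots. -/
noncomputable def toSp (g : ↥Cen) : Matrix.symplecticGroup (Fin 3) (ZMod 2) := ⟨mat g, mat_mem g⟩

theorem coords_unique : ∀ a b : Fin 3 ⊕ Fin 3 → ZMod 2,
    (∀ k, CfsgLib.Sp.sf a (Pi.single k 1) = CfsgLib.Sp.sf b (Pi.single k 1)) → a = b := by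
  intro a b h
  funext c
  rcases c with c | c
  · have := h (Sum.inr c)
    rwa [CfsgLib.Sp.sf_single_inr, CfsgLib.Sp.sf_single_inr, neg_inj] at this
  · have := h (Sum.inl c)
    rwa [CfsgLib.Sp.sf_single_inl, CfsgLib.Sp.sf_single_inl] at this

theorem mat_cv (g : ↥Cen) (i : Fin 126) : mat g *ᵥ cv i = cv (move g i) := by
  have hinv : mat g *ᵥ ((toSp g)⁻¹.1 *ᵥ cv (move g i)) = cv (move g i) := by
    rw [Matrix.mulVec_mulVec, show mat g * (toSp g)⁻¹.1 = ((toSp g) * (toSp g)⁻¹).1 from rfl, mul_inv_cancel]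
    exact Matrix.one_mulVec _
  conv_rhs => rw [← hinv]
  congr 1
  refine coords_unique _ _ fun k => ?_
  rw [← CfsgLib.Sp.sf_sp (toSp g) ((toSp g)⁻¹.1 *ᵥ cv (move g i)) (Pi.single k 1)]
  show CfsgLib.Sp.sf (cv i) (Pi.single k 1) = CfsgLib.Sp.sf (mat g *ᵥ _) (mat g *ᵥ _)
  rw [hinv, mat_single, sf_move, cv_basis]

theorem toSp_mul (g h : ↥Cen) : toSp (g * h) = toSp g * toSp h := by
  refine Subtype.ext ?_
  show mat (g * h) = mat g * mat h
  exact Matrix.toLin'.injective (LinearMap.pi_ext' fun b => LinearMap.ext_ring (by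
    show mat (g * h) *ᵥ Pi.single b 1 = (mat g * mat h) *ᵥ Pi.single b 1
    rw [← Matrix.mulVec_mulVec, mat_single, mat_single, mat_cv, move_mul]))

/-- The action on the classes of the roots, as a homomorphism. -/
noncomputable def spHom : ↥Cen →* Matrix.symplecticGroup (Fin 3) (ZMod 2) := MonoidHom.mk' toSp toSp_mul

theorem cv_move_of_ker {g : ↥Cen} (hg : g ∈ spHom.ker) (i : Fin 126) : cv (move g i) = cv i := by
  have e : mat g = 1 := congrArg Subtype.val (MonoidHom.mem_ker.1 hg)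
  rw [← mat_cv, e, Matrix.one_mulVec]

end CfsgLib.Spor.CoTwoInv
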