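import Cfsg.Agent.Lib.Spor.CoTwoInv.Data
import Cfsg.Agent.Lib.Spor.SchurCert.MatTable
import Cfsg.Agent.Lib.Spor.SchurCert.MatBridge

/-!
The checks for the involution centralizer.
-/

set_option autoImplicit false

namespace CfsgLib.Spor.CoTwoInv

open CfsgLib.Spor.Leech.Census32 CfsgLib.Spor.SchurCert CfsgLib.Spor.SchurCert.MatBridge

/-- The whole table. -/
def table : List Mat := CoTwoOut.allMats ++ mats

/-- Two words differ. -/
noncomputable def differI (u v : List ℕ) : Bool :=
  oneMat.1.any fun X => !Nat.beq (walk table X u) (walk table X v)

/-- The product with a packed vector, shifted. -/
noncomputable def dval (x : ℕ) (p : ℕ × ℕ) : ℕ :=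
  Nat.sub (Nat.add (CentCheck.dotN x p.2) 16384) (Nat.mul 8 (Nat.add (x % 40502) (p.1 % 40502)))

/-- The products with the frame in one number. -/
noncomputable def frameKey (X : ℕ) : ℕ := frame.foldl (fun k p => Nat.add (Nat.mul k 32768) (dval X p)) 0

/-- The products after negating the part orthogonal to the marked vector. -/
noncomputable def negKey (X : ℕ) : ℕ :=
  frame.tail.foldl (fun k p => Nat.add (Nat.mul k 32768) (Nat.sub 29696 (dval X p))) (dval X (frame.getD 0 (0, 0)))

/-- The involution. -/
def invWordT : List ℕ := normGens.getD 0 []

/-- A product of generators of the normal subgroup. -/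
def prodWord (e : ℕ) : List ℕ := (((List.range 9).filter fun i => e.testBit i).map fun i => normGens.getD i []).flatten

/-- The facts about the named elements. -/
noncomputable def namedOK : Bool :=
  sameM table 15 (invWordT ++ invWordT) [] && differI invWordT [] && Nat.beq normGens.length 9 &&
    ((strong ++ normGens).all fun w => sameM table 15 (w ++ invWordT) (invWordT ++ w)) &&
    (normGens.all fun w => roots.all fun r => Nat.beq (walk table r.1 w) r.1) &&
    ((List.range 9).all fun i => (List.range 9).all fun j =>
      sameM table 15 (normGens.getD i [] ++ normGens.getD j []) (normGens.getD j [] ++ normGens.getD i []) ||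
        sameM table 15 (normGens.getD i [] ++ normGens.getD j [])
          (invWordT ++ normGens.getD j [] ++ normGens.getD i [])) &&
    (List.range 9).all fun i =>
      sameM table 15 (normGens.getD i [] ++ normGens.getD i []) [] ||
        sameM table 15 (normGens.getD i [] ++ normGens.getD i []) invWordT

/-- Two words differ on the first further vector. -/
noncomputable def differFirst (u v : List ℕ) : Bool :=
  !Nat.beq (walk table (plusVecs.getD 0 (0, 0)).1 u) (walk table (plusVecs.getD 0 (0, 0)).1 v)

/-- Only the involution is central. -/
noncomputable def centerOK : Bool :=
  (List.range 510).all fun e => (List.range 9).any fun i =>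
    differFirst (prodWord (e + 2) ++ normGens.getD i []) (normGens.getD i [] ++ prodWord (e + 2))

/-- The images of nine further vectors in one number. -/
noncomputable def orderKey (e : ℕ) : ℕ :=
  (plusVecs.take 9).foldl (fun k p => Nat.add (Nat.mul k (2 ^ 400)) (walk table p.1 (prodWord e))) 0

/-- The products are distinct. -/
noncomputable def distinctOK : Bool :=
  increasing (normOrder.map orderKey) && Nat.beq normOrder.length 512 && normOrder.all fun e => Nat.blt e 512

/-- The reverses are right. -/
noncomputable def revsOK : Bool :=
  (frame ++ roots ++ plusVecs ++ minusVecs ++ plusCands.flatMap Prod.snd ++ minusCands.flatMap Prod.snd).all fun p =>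
    Nat.beq p.2 (CentCheck.revN p.1)

/-- The symplectic product of two coordinate numbers. -/
def formBit (a b : ℕ) : ℕ :=
  ((List.range 3).filter fun i => a.testBit i && b.testBit (i + 3)).length +
    ((List.range 3).filter fun i => a.testBit (i + 3) && b.testBit i).length

/-- The facts about the roots. -/
noncomputable def rootsOK : Bool :=
  Nat.beq roots.length 126 && Nat.beq rootCoords.length 126 && (rootCoords.all fun c => Nat.blt 0 c && Nat.blt c 64) &&
    ((List.range 126).all fun i => (List.range 126).all fun j =>
      Nat.beq (dval (roots.getD i (0, 0)).1 (roots.getD j (0, 0)) % 16) 0 &&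
        Nat.beq (dval (roots.getD i (0, 0)).1 (roots.getD j (0, 0)) / 16 % 2)
          (formBit (rootCoords.getD i 0) (rootCoords.getD j 0) % 2) &&
        (!Nat.beq (rootCoords.getD i 0) (rootCoords.getD j 0) || Nat.beq i j ||
          Nat.beq (dval (roots.getD i (0, 0)).1 (roots.getD j (0, 0))) 14816)) &&
    ((List.range 6).all fun i => Nat.blt (basisAt.getD i 0) 126 &&
      Nat.beq (rootCoords.getD (basisAt.getD i 0) 0) (2 ^ i)) &&
    Nat.beq frame.length 8 && Nat.beq (frame.getD 0 (0, 0)).1 CoTwoMult.markCode &&
    ((List.range 7).all fun i => Nat.blt (frameAt.getD i 0) 126 &&
      Nat.beq (frame.getD (i + 1) (0, 0)).1 (roots.getD (frameAt.getD i 0) (0, 0)).1) &&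
    (roots.all fun p => Nat.beq (dval p.1 (frame.getD 0 (0, 0))) 14848) &&
    (List.range 6).all fun i => (List.range (i + 1)).any fun j =>
      !Nat.beq (dval (roots.getD (frameAt.getD (i + 1) 0) (0, 0)).1 (roots.getD (frameAt.getD j 0) (0, 0))) 14848

/-- Every fixed vector orthogonal to the marked one is listed. -/
noncomputable def rootScan (xs : List ℕ) : Bool :=
  xs.all fun X => !(Nat.beq (dval X (frame.getD 0 (0, 0))) 14848 && Nat.beq (step (table.getD 170 oneMat) X) X) ||
    roots.any fun p => Nat.beq X p.1

/-- The residues of the first keys. -/
def plusMask : ℕ := 1966323056414169161557376013453953244251879242849399691802399098932166872059026235303800118698918222630272100790606404019506621334009305063239974869304009847491488087737393648415710508923595666396155009800642959314162925360398922541536195417739997565868081306521455459794555493029229041470402126506452093137524789150665588309716196345890771625115323363088613519634027235252254413232249728204560829082388537906647769428989615929828060183026089486711992611944570336032107563847179264256409778676374555369858332917790879466935405595130391185728757924728254011230313801148309715009479056930464134757890310106099785930511214126553983750172713458861417734864974196683381458048470413782605432903794966720726306034474511855349007969520060851108084745172036161670761270889222803486847001379736230813737501701660834299842140005888171298598332355552355926665475353230525153441067282181840742659155281410157995254366435171147006036454261410636515480641953987952410074592394351659049193415722130624706127034194740797142131662637362590726816126960812197050694238208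

/-- The residues of the second keys. -/
def minusMask : ℕ := 4070495979822086273933222308453199065457981939910141987282453811482470855892023027996896297023545775481317401687519249728862459425690283980435544125097886340139717078002366440712238474430133285600309993516368088845032502276651725693483442505441328623734302522532667278111022936596446314239071638110377649522860149287541414771969759373105316783826534608372653457307316564390919895884762923744858871541453683028378073971249882370911522545530529417884212271232246566675282883775745242896936913311271091680388447849563542182556253275304613809234050011500152645168706414205650012130468488831402720917891121200278109976310177260967431924337072531273235144381358114261487298243452894459495360423059149054921380551036346060440353981638310082300894549876030497107445641006148219226687456504373437224696202418297843667540818140206918701062234737328074775155331981025651865899682887454687232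

/-- Every vector with a listed key is a listed candidate. -/
noncomputable def candScan (M : ℕ) (L : List (ℕ × List (ℕ × ℕ))) (xs : List ℕ) : Bool :=
  xs.all fun X => Nat.beq (Nat.land (Nat.shiftRight M (frameKey X % 4093)) 1) 0 ||
    L.all fun e => !Nat.beq (frameKey X) e.1 || e.2.any fun p => Nat.beq X p.1

/-- The residues of the keys are in the masks. -/
noncomputable def masksOK : Bool :=
  (plusCands.all fun e => Nat.beq (Nat.land (Nat.shiftRight plusMask (e.1 % 4093)) 1) 1) &&
    minusCands.all fun e => Nat.beq (Nat.land (Nat.shiftRight minusMask (e.1 % 4093)) 1) 1

/-- A new image agrees with the earlier ones. -/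
noncomputable def agree (b c : ℕ × ℕ) (prev l : List (ℕ × ℕ)) : Bool :=
  (prev.zip l).all fun q => Nat.beq (dval c.1 q.2) (dval b.1 q.1)

/-- All tuples of possible images. -/
noncomputable def leavesFrom : List ((ℕ × ℕ) × List (ℕ × ℕ)) → List (ℕ × ℕ) → List (List (ℕ × ℕ)) → List (List (ℕ × ℕ))
  | [], _, ts => ts
  | (b, cs) :: rest, prev, ts =>
    leavesFrom rest (b :: prev) (ts.flatMap fun l => (cs.filter fun c => agree b c prev l).map fun c => c :: l)

/-- The tuples under elements fixing the frame. -/
noncomputable def plusLeaves : List (List (ℕ × ℕ)) := leavesFrom (plusVecs.zip (plusCands.map Prod.snd)) [] [[]]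

/-- The tuples under elements negating the orthogonal part. -/
noncomputable def minusLeaves : List (List (ℕ × ℕ)) := leavesFrom (minusVecs.zip (minusCands.map Prod.snd)) [] [[]]

/-- The further vectors are where the words say, with the listed keys. -/
noncomputable def vecsOK : Bool :=
  Nat.beq plusWords.length plusVecs.length && Nat.beq plusCands.length plusVecs.length &&
    Nat.beq minusWords.length minusVecs.length && Nat.beq minusCands.length minusVecs.length &&
    Nat.beq plusVecs.length 16 &&
    ((List.range 16).all fun i =>
      Nat.beq (walk table CoTwoMult.startCode (plusWords.getD i [])) (plusVecs.getD i (0, 0)).1 &&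
        Nat.beq (plusCands.getD i (0, [])).1 (frameKey (plusVecs.getD i (0, 0)).1)) &&
    (List.range minusVecs.length).all fun i =>
      Nat.beq (walk table CoTwoMult.startCode (minusWords.getD i [])) (minusVecs.getD i (0, 0)).1 &&
        Nat.beq (minusCands.getD i (0, [])).1 (negKey (minusVecs.getD i (0, 0)).1)

/-- The frame and the further vectors give the unit vectors. -/
noncomputable def spanOK : Bool :=
  Nat.blt 0 den && Nat.beq span.length 24 && (List.range 24).all fun i =>
    Nat.beq (span.getD i []).length 24 && (List.range 24).all fun j =>
      CentCheck.wsum (span.getD i []) ((frame ++ plusVecs).map fun v => CentCheck.dig v.1 j) ==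
        (den : ℤ) * (if i == j then 8 else 0)

end CfsgLib.Spor.CoTwoInv
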